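import Cfsg.Agent.H393.LieNoThree
import Cfsg.Agent.H248.DichRGD
import Cfsg.Agent.S1072
import Cfsg.Agent.S1073
import Cfsg.Agent.S1162

/-!
# Subgroups of index prime to `p` with trivial `p`-core in groups of Lie type of characteristic `p` (helper567)

`dich_of_lie` : `IsLieTypeChar p K → Dich p K` (with helper248's `Dich` and helper393's overgroup theorem).
-/

set_option autoImplicit false
set_option linter.unusedSectionVars false

namespace Cfsg.Agent.H567.DichLie

open Subgroup Cfsg Cfsg.Agent.H248.Ovg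

theorem dich_of_hasSplit {K : Type*} [Group K] [Finite K] [IsSimpleGroup K] {p : ℕ} [hp : Fact p.Prime]
    (h : FixBN.HasSplit p K) : Dich p K := by
  obtain ⟨P, U, hne, h⟩ := h
  have hN : ((P.B ⊓ P.N).subgroupOf P.N).Normal := Tits.OfBN.normal_subgroupOf P
  obtain ⟨M, cs, hcs⟩ := S0320.result P
  have hI : Finite P.S := FixBN.OfBN.finite_I (Equiv.refl P.S)
  have hIn : Nonempty P.S := hne.to_subtype
  have S := FixBN.OfBN.sys (Equiv.refl P.S) cs hcs h
  have hth := Tits.OfBN.thick P (Equiv.refl P.S) cs hcs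
  refine Dich.of_eq_top fun R hR hpR => ?_
  by_contra hR1
  obtain ⟨Q⟩ : Nonempty (Sylow p R) := inferInstance
  have hQ : IsPGroup p ((Q : Subgroup R).map R.subtype) := Q.2.map R.subtype
  obtain ⟨c, hc⟩ := S.exists_fix _ hQ
  have h1 := S.max c _ hQ hc
  have hcard : Nat.card (S.U c) ≤ Nat.card ((Q : Subgroup R).map R.subtype) := by
    obtain ⟨k, hk⟩ := (IsPGroup.iff_card).1 (S.isP c)
    have h2 : p ^ k ∣ Nat.card R := by
      have h3 : p ^ k ∣ Nat.card R * R.index := by
        rw [Subgroup.card_mul_index, ← hk]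
        exact Subgroup.card_subgroup_dvd_card _
      exact Nat.Coprime.dvd_of_dvd_mul_right
        (Nat.Coprime.pow_left k ((Nat.Prime.coprime_iff_not_dvd hp.out).2 hpR)) h3
    rw [Subgroup.card_subtype, hk]
    refine Nat.le_of_dvd Nat.card_pos ?_
    exact Sylow.pow_dvd_card_of_pow_dvd_card Q h2
  have h2 : (Q : Subgroup R).map R.subtype = S.U c := Subgroup.eq_of_le_of_card_ge h1 hcard
  have h3 : S.U c ≤ R := by
    rw [← h2]
    exact Subgroup.map_subtype_le _
  obtain ⟨M, hM1, hM2, hM3, hM4⟩ := H393.exists_normal_of_U_le S hth hR1 h3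
  exact false_of_pCore hR hM2 hM3 hM1 hM4

/-- **the groups of Lie type of characteristic `p`** -/
theorem dich_of_lie {p : ℕ} [Fact p.Prime] {K : Type*} [Group K] [Finite K] (h : IsLieTypeChar p K) : Dich p K := by
  rcases Nodes.RGDLie.hasRGD_of_lie h with h1 | ⟨rfl, h1⟩ | ⟨rfl, h1⟩ | ⟨rfl, h1⟩
  · exact dich_of_hasRGD h1
  · have hs : IsSimpleGroup K := by
      obtain ⟨F, _, _, m, hm, hF, ⟨e⟩⟩ := h1
      have := S1162.result hm hF
      exact e.isSimpleGroup
    exact dich_of_hasSplit (H393.hasSplit_of_lie Nat.prime_two h)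
  · have hs : IsSimpleGroup K := by
      obtain ⟨F, _, _, m, hm, hF, ⟨e⟩⟩ := h1
      have := (S1072.result hm hF).1
      exact e.isSimpleGroup
    exact dich_of_hasSplit (H393.hasSplit_of_lie Nat.prime_two h)
  · have hs : IsSimpleGroup K := by
      obtain ⟨F, _, _, m, hm, hF, ⟨e⟩⟩ := h1
      have := (S1073.result hm hF).1
      exact e.isSimpleGroup
    exact dich_of_hasSplit (H393.hasSplit_of_lie Nat.prime_three h)

end Cfsg.Agent.H567.DichLie
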