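import Cfsg.Agent.S0483
import Cfsg.Agent.H407.Basic
import Cfsg.Agent.SignalizersComponents.QsRankOne
import Cfsg.Agent.Classification.RankOneCore
import Cfsg.Agent.CpAut.Fix

/-!
# Simple quotients of groups with a unique involution (helper567, for S4307)

`main` : `C` finite with at most one involution, `π : C →* T` onto, `T` nonabelian simple: `T ≅ PSL₂(F)`, `|F| > 3` odd,
or `T ≅ A₇`.
-/

set_option autoImplicit false

namespace Cfsg.Agent.H567.DihRow

open Cfsg Subgroup

theorem even_card {T : Type*} [Group T] [Finite T] [IsSimpleGroup T] (hna : ¬ IsMulCommutative T) :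
    Even (Nat.card T) := by
  by_contra h
  rw [Nat.not_even_iff_odd] at h
  have hs := Cfsg.Agent.S0205.result h
  have := IsSimpleGroup.comm_iff_isSolvable.2 hs
  exact hna ⟨⟨this⟩⟩

theorem oddCore_eq_bot {T : Type*} [Group T] [Finite T] [IsSimpleGroup T] (hna : ¬ IsMulCommutative T) :
    oddCore T = ⊥ := by
  rcases (inferInstance : (oddCore T).Normal).eq_bot_or_eq_top with h | h
  · exact h
  · exfalso
    have h1 : Odd (Nat.card (oddCore T)) := Cfsg.Agent.Classification.DihMinimal.odd_card_oddCore T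
    rw [h, card_top] at h1
    exact (Nat.not_even_iff_odd.2 h1) (even_card hna)

/-- a group with a unique involution has `2`-rank at most `1` -/
theorem rank_of_unique {C : Type*} [Group C] [Finite C] (h : ∀ a b : C, orderOf a = 2 → orderOf b = 2 → a = b) :
    PRankLE 2 1 C := by
  intro A _ hA
  rw [pow_one]
  by_contra hcon
  push Not at hcon
  have h2 : ∀ a ∈ A, a ≠ 1 → orderOf a = 2 := fun a ha h1 => orderOf_eq_prime (hA a ha) h1
  by_cases hb : A = ⊥
  · rw [hb, card_bot] at hcon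
    omega
  obtain ⟨⟨a, ha⟩, ha0⟩ := Subgroup.ne_bot_iff_exists_ne_one.1 hb
  have ha1 : a ≠ 1 := fun h1 => ha0 (Subtype.ext h1)
  have h3 : (A : Set C) ⊆ {1, (a : C)} := by
    intro x hx
    by_cases hx1 : x = 1
    · exact Or.inl hx1
    · exact Or.inr (h x a (h2 x hx hx1) (h2 a ha ha1))
  have h4 : (A : Set C).ncard ≤ 2 := by
    refine (Set.ncard_le_ncard h3 (Set.toFinite _)).trans ?_
    refine (Set.ncard_insert_le _ _).trans ?_
    rw [Set.ncard_singleton]
  have h5 : Nat.card A = (A : Set C).ncard := rfl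
  omega

/-- the rank of a Sylow subgroup -/
theorem rank_of_sylow {T : Type*} [Group T] [Finite T] (S : Sylow 2 T) (h : PRankLE 2 1 (S : Subgroup T)) :
    PRankLE 2 1 T := by
  intro A hAc hA
  have hA2 : IsPGroup 2 A := by
    intro a
    refine ⟨1, ?_⟩
    rw [pow_one]
    exact Subtype.ext (hA a a.2)
  obtain ⟨g, hg⟩ := hA2.exists_le_sylow
  obtain ⟨x, hx⟩ := MulAction.exists_smul_eq T g S
  have h1 : A.map (MulAut.conj x).toMonoidHom ≤ S := by
    rw [← hx]
    rintro _ ⟨a, ha, rfl⟩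
    rw [Sylow.coe_subgroup_smul]
    exact Subgroup.smul_mem_pointwise_smul _ _ _ (hg ha)
  have h2 := h ((A.map (MulAut.conj x).toMonoidHom).subgroupOf S) ?_ ?_
  · have h3 : Nat.card ((A.map (MulAut.conj x).toMonoidHom).subgroupOf (S : Subgroup T)) = Nat.card A := by
      rw [Nat.card_congr (subgroupOfEquivOfLe h1).toEquiv]
      exact Nat.card_congr (A.equivMapOfInjective _ (MulAut.conj x).injective).toEquiv.symm
    rwa [h3] at h2
  · refine ⟨⟨?_⟩⟩
    rintro ⟨⟨a, ha⟩, ha'⟩ ⟨⟨b, hb⟩, hb'⟩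
    obtain ⟨a0, ha0, rfl⟩ := mem_subgroupOf.1 ha'
    obtain ⟨b0, hb0, rfl⟩ := mem_subgroupOf.1 hb'
    refine Subtype.ext (Subtype.ext ?_)
    have h4 : a0 * b0 = b0 * a0 := congrArg Subtype.val (hAc.is_comm.comm (⟨a0, ha0⟩ : A) ⟨b0, hb0⟩)
    show (MulAut.conj x).toMonoidHom a0 * (MulAut.conj x).toMonoidHom b0 = _
    rw [← map_mul, h4, map_mul]
    rfl
  · rintro ⟨a, ha⟩ ha'
    obtain ⟨a0, ha0, rfl⟩ := mem_subgroupOf.1 ha'
    refine Subtype.ext ?_
    show ((MulAut.conj x).toMonoidHom a0) ^ 2 = 1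
    rw [← map_pow, hA a0 ha0, map_one]

theorem rank_of_cyclic {S : Type*} [Group S] [Finite S] (h : IsCyclic S) : PRankLE 2 1 S := by
  intro A _ hA
  rw [pow_one]
  have h1 : IsCyclic A := inferInstance
  obtain ⟨g, hg⟩ := h1.exists_generator
  have h2 : orderOf g = Nat.card A := orderOf_eq_card_of_forall_mem_zpowers hg
  rw [← h2]
  exact Nat.le_of_dvd two_pos (orderOf_dvd_of_pow_eq_one (Subtype.ext (hA g g.2)))

theorem not_rank_one {T : Type*} [Group T] [Finite T] [IsSimpleGroup T] (hna : ¬ IsMulCommutative T) :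
    ¬ PRankLE 2 1 T := by
  intro h
  obtain ⟨⟨t, ht, ht2⟩, -⟩ := Cfsg.Agent.SignalizersComponents.QsRankOne.exists_central_involution
    (Cfsg.Agent.CpAut.Fix.quasisimple_of_simple hna) (even_card hna) h
  rw [Cfsg.Agent.CpAut.Fix.center_eq_bot hna, mem_bot] at ht
  rw [ht, orderOf_one] at ht2
  omega

/-- dihedral Sylow `2`-subgroups -/
theorem of_dihedral {T : Type*} [Group T] [Finite T] [IsSimpleGroup T] (hna : ¬ IsMulCommutative T) (S : Sylow 2 T)
    {n : ℕ} (hn : 2 ≤ n) (hS : Nonempty ((S : Subgroup T) ≃* DihedralGroup n)) :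
    (∃ (F : Type) (_ : Field F) (_ : Fintype F), Odd (Fintype.card F) ∧ 3 < Fintype.card F ∧
        Nonempty (T ≃* Matrix.ProjectiveSpecialLinearGroup (Fin 2) F)) ∨
      Nonempty (T ≃* alternatingGroup (Fin 7)) := by
  have hperf : Group.IsPerfect T := (Cfsg.Agent.CpAut.Fix.quasisimple_of_simple hna).1
  have h1 := oddCore_eq_bot hna
  have e0 : T ≃* T ⧸ oddCore T := (QuotientGroup.quotientBot.symm).trans (QuotientGroup.quotientMulEquivOfEq h1.symm)
  rcases Cfsg.Agent.S0483.result S n hn hS with ⟨F, i1, i2, ho, h3, ⟨e⟩⟩ | ⟨⟨e⟩⟩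
  · exact Or.inl ⟨F, i1, i2, ho, h3, ⟨e0.trans e⟩⟩
  · exact Or.inr ⟨e0.trans e⟩

/-- **(b)** -/
theorem main {C T : Type*} [Group C] [Finite C] [Group T] [IsSimpleGroup T] (hna : ¬ IsMulCommutative T)
    (π : C →* T) (hπ : Function.Surjective π) (hone : ∀ a b : C, orderOf a = 2 → orderOf b = 2 → a = b) :
    (∃ (F : Type) (_ : Field F) (_ : Fintype F), Odd (Fintype.card F) ∧ 3 < Fintype.card F ∧
        Nonempty (T ≃* Matrix.ProjectiveSpecialLinearGroup (Fin 2) F)) ∨
      Nonempty (T ≃* alternatingGroup (Fin 7)) := by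
  have hT : Finite T := Finite.of_surjective π hπ
  obtain ⟨R⟩ : Nonempty (Sylow 2 C) := inferInstance
  let S : Sylow 2 T := R.mapSurjective hπ
  have hS : (S : Subgroup T) = (R : Subgroup C).map π := rfl
  let f : (R : Subgroup C) →* (S : Subgroup T) := (π.comp (R : Subgroup C).subtype).codRestrict _ (fun x => ⟨x, x.2, rfl⟩)
  have hf : Function.Surjective f := by
    rintro ⟨y, hy⟩
    rw [hS] at hy
    obtain ⟨x, hx, rfl⟩ := hy
    exact ⟨⟨x, hx⟩, rfl⟩
  have hR1 : PRankLE 2 1 (R : Subgroup C) := by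
    refine rank_of_unique fun a b ha hb => Subtype.ext (hone a b ?_ ?_)
    · rw [Subgroup.orderOf_coe]; exact ha
    · rw [Subgroup.orderOf_coe]; exact hb
  have hSnc : ¬ IsCyclic (S : Subgroup T) := fun h => not_rank_one hna (rank_of_sylow S (rank_of_cyclic h))
  rcases Cfsg.Agent.Classification.RankOneCore.cyclic_or_quaternion R.isPGroup' hR1 with hc | ⟨m, ⟨e⟩⟩
  · exact absurd (isCyclic_of_surjective f hf) hSnc
  · by_cases hk : f.ker = ⊥
    · exfalso
      have hinj : Function.Injective f := (MonoidHom.ker_eq_bot_iff f).1 hk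
      apply not_rank_one hna
      apply rank_of_sylow S
      refine rank_of_unique fun a b ha hb => ?_
      obtain ⟨a', rfl⟩ := hf a
      obtain ⟨b', rfl⟩ := hf b
      rw [orderOf_injective f hinj] at ha hb
      congr 1
      refine Subtype.ext (hone a' b' ?_ ?_)
      · rw [Subgroup.orderOf_coe]; exact ha
      · rw [Subgroup.orderOf_coe]; exact hb
    · rcases Cfsg.Agent.H407.Basic.dihedral_of_quotient e f hf hk with h | ⟨n, hn, h⟩
      · exact absurd h hSnc
      · exact of_dihedral hna S hn h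

end Cfsg.Agent.H567.DihRow
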