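import Mathlib

/-!
# Arithmetic for `PSL₂(p)` (helper567, for S4307)
-/

set_option autoImplicit false

namespace Cfsg.Agent.H567.SCNum

theorem grow (p : ℕ) (hp : 23 ≤ p) : (p * (p * p)) ^ 3 < 216 * 3 ^ (p - 1) := by
  induction p, hp using Nat.le_induction with
  | base => norm_num
  | succ p hp ih =>
    have h1 : ((p + 1) * ((p + 1) * (p + 1))) ^ 3 ≤ 3 * (p * (p * p)) ^ 3 := by
      have h2 : (p + 1) ^ 9 ≤ 3 * p ^ 9 := by
        have h3 : 23 * (p + 1) ≤ 24 * p := by omega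
        have h4 : (23 * (p + 1)) ^ 9 ≤ (24 * p) ^ 9 := Nat.pow_le_pow_left h3 9
        rw [mul_pow, mul_pow] at h4
        have h5 : (24 : ℕ) ^ 9 ≤ 3 * 23 ^ 9 := by norm_num
        have h6 : 23 ^ 9 * (p + 1) ^ 9 ≤ 23 ^ 9 * (3 * p ^ 9) := by
          calc 23 ^ 9 * (p + 1) ^ 9 ≤ 24 ^ 9 * p ^ 9 := h4
            _ ≤ (3 * 23 ^ 9) * p ^ 9 := Nat.mul_le_mul_right _ h5
            _ = 23 ^ 9 * (3 * p ^ 9) := by ring
        exact Nat.le_of_mul_le_mul_left h6 (by norm_num)
      calc ((p + 1) * ((p + 1) * (p + 1))) ^ 3 = (p + 1) ^ 9 := by ring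
        _ ≤ 3 * p ^ 9 := h2
        _ = _ := by ring
    have h3 : 3 ^ (p + 1 - 1) = 3 * 3 ^ (p - 1) := by
      have : p + 1 - 1 = (p - 1) + 1 := by omega
      rw [this, pow_succ, mul_comm]
    rw [h3]
    calc _ ≤ 3 * (p * (p * p)) ^ 3 := h1
      _ < 3 * (216 * 3 ^ (p - 1)) := by omega
      _ = _ := by ring

/-- the conditions as a boolean -/
def cond (p s k q : ℕ) : Bool :=
  Nat.ble 3 s && Nat.ble 3 k && Nat.ble 3 q && Nat.beq (q % 2) 1 && Nat.beq (s % 2) 1 && Nat.beq ((s ^ k - 1) % (s - 1)) 0 &&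
    Nat.beq ((p * (p * p - 1)) % (2 * (q * ((s ^ k - 1) / (s - 1))))) 0 && Nat.beq (((s ^ k - 1) / (s - 1)) % q) 1 &&
    !(Nat.beq (s % q) 0)

theorem fin_check : ∀ p ∈ ([5, 7, 11, 13, 17, 19] : List ℕ), ∀ s < 34, ∀ k < 9, ∀ q < 20, cond p s k q = false := by
  decide +kernel

theorem main {p q r m k n : ℕ} (hp : p.Prime) (hp2 : p ≠ 2) (hp3 : p ≠ 3) (hq : q.Prime) (hq2 : q ≠ 2) (hr : r.Prime)
    (hr2 : r ≠ 2) (hqr : q ≠ r) (hqp : q ≠ p) (hm : 0 < m) (hk : 3 ≤ k) (h : r ^ (m * k) = n * (r ^ m - 1) + 1)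
    (hn : n ≡ 1 [MOD q]) (hdvd : 2 * (q * n) ∣ p * (p * p - 1)) (hdim : (p - 1) / 2 ≤ m * k) : False := by
  have hp5 : 5 ≤ p := by
    rcases Nat.lt_or_ge p 5 with h5 | h5
    · have := hp.two_le
      interval_cases p <;> simp_all +decide
    · exact h5
  have hq3 : 3 ≤ q := by have := hq.two_le; omega
  have hr3 : 3 ≤ r := by have := hr.two_le; omega
  obtain ⟨s, hs⟩ : ∃ s, s = r ^ m := ⟨_, rfl⟩
  have hs3 : 3 ≤ s := by
    rw [hs]
    calc 3 ≤ r := hr3
      _ = r ^ 1 := (pow_one r).symm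
      _ ≤ r ^ m := Nat.pow_le_pow_right hr.pos hm
  have hsk : s ^ k = n * (s - 1) + 1 := by rw [hs, ← pow_mul]; exact h
  have hppos : 0 < p * (p * p - 1) := by
    have : 25 ≤ p * p := by nlinarith
    exact Nat.mul_pos (by omega) (by omega)
  -- `n ≥ s ^ (k - 1)`
  have hns : s ^ (k - 1) ≤ n := by
    have h1 : s ^ k = s ^ (k - 1) * s := by rw [← pow_succ]; congr 1; omega
    have h2 : 1 ≤ s ^ (k - 1) := Nat.one_le_pow _ _ (by omega)
    obtain ⟨t, ht⟩ : ∃ t, s = t + 1 := ⟨s - 1, by omega⟩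
    rw [ht, Nat.add_sub_cancel] at hsk
    rw [ht] at h1 ⊢ h2
    have h3 : (t + 1) ^ (k - 1) * t ≤ n * t := by
      have : (t + 1) ^ (k - 1) * (t + 1) = n * t + 1 := by rw [← h1, hsk]
      rw [mul_add, mul_one] at this
      omega
    exact Nat.le_of_mul_le_mul_right h3 (by omega)
  have hnle : 6 * n ≤ p * (p * p - 1) := by
    have h1 := Nat.le_of_dvd hppos hdvd
    nlinarith
  -- the bound for `p`
  have hp19 : p < 23 := by
    by_contra hlt
    push Not at hlt
    have h1 := grow p hlt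
    have h2 : 3 ^ (p - 1) ≤ n ^ 3 := by
      have hodd : p - 1 = 2 * ((p - 1) / 2) := by
        have := hp.eq_two_or_odd
        omega
      calc 3 ^ (p - 1) ≤ r ^ (p - 1) := Nat.pow_le_pow_left hr3 _
        _ ≤ r ^ (2 * (m * k)) := Nat.pow_le_pow_right hr.pos (by omega)
        _ ≤ r ^ (m * (3 * (k - 1))) := Nat.pow_le_pow_right hr.pos (by
            have : 2 * k ≤ 3 * (k - 1) := by omega
            calc 2 * (m * k) = m * (2 * k) := by ring
              _ ≤ m * (3 * (k - 1)) := Nat.mul_le_mul_left _ this)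
        _ = (s ^ (k - 1)) ^ 3 := by rw [hs, ← pow_mul, ← pow_mul]; congr 1; ring
        _ ≤ n ^ 3 := Nat.pow_le_pow_left hns 3
    have h3 : (6 * n) ^ 3 ≤ (p * (p * p)) ^ 3 :=
      Nat.pow_le_pow_left (hnle.trans (Nat.mul_le_mul_left _ (Nat.sub_le _ _))) 3
    have h4 : (6 * n) ^ 3 = 216 * n ^ 3 := by ring
    rw [h4] at h3
    have h5 : 216 * 3 ^ (p - 1) ≤ 216 * n ^ 3 := Nat.mul_le_mul_left _ h2
    omega
  have hpl : p ∈ ([5, 7, 11, 13, 17, 19] : List ℕ) := by
    interval_cases p <;> simp_all +decide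
  have hn1140 : n ≤ 1140 := by
    have h1 : p ≤ 19 := by
      simp only [List.mem_cons, List.not_mem_nil, or_false] at hpl
      omega
    have h2 : p * (p * p - 1) ≤ 19 * (19 * 19 - 1) :=
      Nat.mul_le_mul h1 (Nat.sub_le_sub_right (Nat.mul_le_mul h1 h1) 1)
    omega
  have hs33 : s < 34 := by
    have h1 : s ^ 2 ≤ s ^ (k - 1) := Nat.pow_le_pow_right (by omega) (by omega)
    nlinarith
  have hk9 : k < 9 := by
    by_contra hlt
    push Not at hlt
    have h1 : 3 ^ 8 ≤ s ^ (k - 1) := (Nat.pow_le_pow_left hs3 8).trans (Nat.pow_le_pow_right (by omega) (by omega))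
    norm_num at h1
    omega
  have hq20 : q < 20 := by
    have h1 : q ∣ p * (p * p - 1) := (Dvd.intro _ rfl : q ∣ q * n).trans ((Dvd.intro_left _ rfl).trans hdvd)
    simp only [List.mem_cons, List.not_mem_nil, or_false] at hpl
    rcases (Nat.Prime.dvd_mul hq).1 h1 with h2 | h2
    · have := Nat.le_of_dvd (by omega) h2
      omega
    · have h3 : p * p - 1 = (p + 1) * (p - 1) := by
        have := Nat.sq_sub_sq p 1
        rw [one_pow, sq] at this
        exact this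
      rw [h3] at h2
      rcases (Nat.Prime.dvd_mul hq).1 h2 with h4 | h4
      · have h5 := Nat.le_of_dvd (by omega) h4
        rcases Nat.lt_or_ge q 20 with h6 | h6
        · exact h6
        · exfalso
          have h7 : p = 19 := by omega
          have h8 : q = 20 := by omega
          rw [h8] at hq
          exact absurd hq (by norm_num)
      · have := Nat.le_of_dvd (by omega) h4
        omega
  have hdiv : (s ^ k - 1) / (s - 1) = n := by
    rw [hsk, Nat.add_sub_cancel]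
    exact Nat.mul_div_cancel _ (by omega)
  have hsodd : s % 2 = 1 := by
    rw [hs, Nat.pow_mod]
    have := hr.eq_two_or_odd
    have h2 : r % 2 = 1 := by omega
    rw [h2, one_pow, Nat.one_mod]
  have hqodd : q % 2 = 1 := by
    have := hq.eq_two_or_odd
    omega
  have h1 := fin_check p hpl s hs33 k hk9 q hq20
  have h0 : s % q = 0 := by
    by_contra hsq
    have e1 : (s ^ k - 1) % (s - 1) = 0 := by rw [hsk, Nat.add_sub_cancel]; exact Nat.mul_mod_left _ _
    have e2 : (p * (p * p - 1)) % (2 * (q * ((s ^ k - 1) / (s - 1)))) = 0 := by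
      rw [hdiv]; exact Nat.mod_eq_zero_of_dvd hdvd
    have e3 : ((s ^ k - 1) / (s - 1)) % q = 1 := by
      rw [hdiv]; have : n % q = 1 % q := hn; rw [this]; exact Nat.mod_eq_of_lt (by omega)
    have e4 : Nat.beq (s % q) 0 = false := by
      rw [Bool.eq_false_iff]
      intro h
      exact hsq (Nat.eq_of_beq_eq_true h)
    rw [cond, e1, e2, e3, e4, hsodd, hqodd, Nat.ble_eq_true_of_le hs3, Nat.ble_eq_true_of_le hk, Nat.ble_eq_true_of_le hq3] at h1
    exact absurd h1 (by decide)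
  have h2 : q ∣ r ^ m := hs ▸ Nat.dvd_of_mod_eq_zero h0
  exact hqr ((Nat.prime_dvd_prime_iff_eq hq hr).1 (hq.dvd_of_dvd_pow h2))

end Cfsg.Agent.H567.SCNum
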