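import Cfsg.Agent.H567.Gap

/-!
# Linear groups modulo scalars: a monomial `p`-group and an almost scalar element (helper567)

`not_pcent_special` : `S` a finite group of matrices of degree `n ≥ 3` (or a group mapping injectively to such matrices), the
centre consisting of scalars, `p ∣ n` an odd prime; `S` contains the diagonal matrices of determinant `1` with
entries `p`-th roots of unity, the even permutation matrices and `diag(c, c⁻¹, 1, …, 1)`, `c` of order `p ^ a`; if
`n ≠ 3` or `a ≠ 1` then `S / Z(S)` has a `p`-element of class size divisible by `p`.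
-/

set_option autoImplicit false
set_option linter.unusedSectionVars false

namespace Cfsg.Agent.H567.Gap

open Subgroup Cfsg.Agent.H573 Matrix

/-- the diagonal `c, c⁻¹, 1, …` -/
def dd {F : Type*} [Field F] {n : ℕ} (c : F) (i : Fin n) : F := if (i : ℕ) = 0 then c else if (i : ℕ) = 1 then c⁻¹ else 1

section
variable {F : Type*} [Field F] {n p : ℕ} [hp : Fact p.Prime]

/-- a fixed point free permutation of order `p` -/
theorem exists_perm (hpn : p ∣ n) : ∃ σ : Equiv.Perm (Fin n), σ ^ p = 1 ∧ ∀ i, σ i ≠ i := by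
  obtain ⟨w, rfl⟩ := hpn
  have hc : Fintype.card (Fin w × ZMod p) = p * w := by
    rw [Fintype.card_prod, Fintype.card_fin, ZMod.card, mul_comm]
  let e : Fin w × ZMod p ≃ Fin (p * w) := Fintype.equivFinOfCardEq hc
  let τ : Equiv.Perm (Fin w × ZMod p) := (Equiv.refl _).prodCongr (Equiv.addRight (1 : ZMod p))
  have h1 : ∀ (m : ℕ) (v : Fin w × ZMod p), (τ ^ m) v = (v.1, v.2 + m) := by
    intro m
    induction m with
    | zero => intro v; simp
    | succ m ih =>
      intro v
      rw [pow_succ, Equiv.Perm.mul_apply, ih]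
      show (v.1, v.2 + 1 + (m : ZMod p)) = _
      push_cast
      congr 1
      ring
  refine ⟨e.permCongrHom τ, ?_, fun i => ?_⟩
  · rw [← map_pow]
    have h2 : τ ^ p = 1 := by
      apply Equiv.ext
      intro v
      rw [h1, CharP.cast_eq_zero, add_zero]
      rfl
    rw [h2, map_one]
  · intro h
    have h2 : e (τ (e.symm i)) = i := h
    have h3 : τ (e.symm i) = e.symm i := e.injective (h2.trans (e.apply_symm_apply i).symm)
    have h4 : (e.symm i).2 + 1 = (e.symm i).2 := congrArg Prod.snd h3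
    have h5 : (1 : ZMod p) = 0 := by rwa [add_eq_left] at h4
    exact one_ne_zero h5

theorem sign_eq_one (hp2 : p ≠ 2) {σ : Equiv.Perm (Fin n)} (h : σ ^ p = 1) : Equiv.Perm.sign σ = 1 := by
  have h1 : (Equiv.Perm.sign σ) ^ p = 1 := by rw [← map_pow, h, map_one]
  rcases Int.units_eq_one_or (Equiv.Perm.sign σ) with h2 | h2
  · exact h2
  · rw [h2] at h1
    have h3 : Odd p := hp.out.odd_of_ne_two hp2
    rw [h3.neg_one_pow] at h1
    exact absurd h1 (by decide)

/-- no common line -/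
theorem no_line (hn : 3 ≤ n) {ζ : F} (hζ : orderOf ζ = p) {σ : Equiv.Perm (Fin n)} (hσ : ∀ i, σ i ≠ i)
    {v : Fin n → F} (hv : v ≠ 0) (h1 : ∀ t : Fin n → F, (∀ i, t i ^ p = 1) → ∏ i, t i = 1 → ∃ l : F, ∀ i, t i * v i = l * v i)
    (h2 : ∃ l : F, ∀ i, v (σ i) = l * v i) : False := by
  have hζ1 : ζ ≠ 1 := by
    rintro rfl
    rw [orderOf_one] at hζ
    exact hp.out.one_lt.ne hζ
  have hζp : ζ ^ p = 1 := hζ ▸ pow_orderOf_eq_one ζ
  have hζ0 : ζ ≠ 0 := by
    rintro rfl
    rw [zero_pow hp.out.ne_zero] at hζp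
    exact zero_ne_one hζp
  obtain ⟨j, hj⟩ := Function.ne_iff.1 hv
  obtain ⟨l, hl⟩ := h2
  -- another non-zero coordinate
  have hi : v (σ.symm j) ≠ 0 := by
    intro h0
    apply hj
    have := hl (σ.symm j)
    rw [σ.apply_symm_apply, h0, mul_zero] at this
    exact this
  set i := σ.symm j with hi'
  have hij : i ≠ j := by
    intro h
    have h3 := hσ i
    rw [hi', σ.apply_symm_apply, ← hi'] at h3
    exact h3 h.symm
  obtain ⟨k, hk⟩ : ∃ k : Fin n, k ≠ i ∧ k ≠ j := by
    by_contra hcon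
    push Not at hcon
    have h4 : (Finset.univ : Finset (Fin n)) ⊆ {i, j} := by
      intro k _
      rw [Finset.mem_insert, Finset.mem_singleton]
      by_cases h5 : k = i
      · exact Or.inl h5
      · exact Or.inr (hcon k h5)
    have h5 := Finset.card_le_card h4
    rw [Finset.card_univ, Fintype.card_fin] at h5
    have h6 := Finset.card_le_two (a := i) (b := j)
    omega
  let t : Fin n → F := Pi.mulSingle i ζ * Pi.mulSingle k ζ⁻¹
  have ht1 : ∀ i, t i ^ p = 1 := by
    intro a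
    have h5 : (Pi.mulSingle i ζ : Fin n → F) ^ p = 1 := by rw [← Pi.mulSingle_pow, hζp, Pi.mulSingle_one]
    have h6 : (Pi.mulSingle k ζ⁻¹ : Fin n → F) ^ p = 1 := by
      rw [← Pi.mulSingle_pow, inv_pow, hζp, inv_one, Pi.mulSingle_one]
    have h7 : t ^ p = 1 := by rw [mul_pow, h5, h6, one_mul]
    exact congrFun h7 a
  have ht2 : ∏ i, t i = 1 := by
    show ∏ a, ((Pi.mulSingle i ζ : Fin n → F) a * (Pi.mulSingle k ζ⁻¹ : Fin n → F) a) = 1
    rw [Finset.prod_mul_distrib, Finset.prod_pi_mulSingle', Finset.prod_pi_mulSingle', if_pos (Finset.mem_univ _),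
      if_pos (Finset.mem_univ _), mul_inv_cancel₀ hζ0]
  obtain ⟨l', hl'⟩ := h1 t ht1 ht2
  have hti : t i = ζ := by
    show (Pi.mulSingle i ζ : Fin n → F) i * (Pi.mulSingle k ζ⁻¹ : Fin n → F) i = ζ
    rw [Pi.mulSingle_eq_same, Pi.mulSingle_eq_of_ne hk.1.symm, mul_one]
  have htj : t j = 1 := by
    show (Pi.mulSingle i ζ : Fin n → F) j * (Pi.mulSingle k ζ⁻¹ : Fin n → F) j = 1
    rw [Pi.mulSingle_eq_of_ne hij.symm, Pi.mulSingle_eq_of_ne hk.2.symm, mul_one]
  have h3 := mul_right_cancel₀ hi (hl' i)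
  have h4 := mul_right_cancel₀ hj (hl' j)
  rw [hti] at h3
  rw [htj] at h4
  exact hζ1 (h3.trans h4.symm)

/-- the entries of a matrix commuting with the diagonal up to a scalar -/
theorem scalar_eq_one (hn : 3 ≤ n) {c : F} {a : ℕ} (hp2 : p ≠ 2) (ha : 1 ≤ a) (hc : orderOf c = p ^ a)
    (hh : 4 ≤ n ∨ p ^ a ≠ 3) {A B : Matrix (Fin n) (Fin n) F} (hAB : B * A = 1) {μ : F}
    (h : A * diagonal (dd c) = μ • (diagonal (dd c) * A)) : μ = 1 := by
  have hent : ∀ k i, A k i ≠ 0 → dd c i = μ * dd c k := by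
    intro k i hki
    have h1 := congrFun (congrFun h k) i
    rw [mul_diagonal, Matrix.smul_apply, diagonal_mul, smul_eq_mul] at h1
    apply mul_left_cancel₀ hki
    rw [h1]; ring
  have hcol : ∀ i, ∃ k, A k i ≠ 0 := by
    intro i
    by_contra hcon
    push Not at hcon
    have h1 : (B * A) i i = 0 := by
      rw [mul_apply]
      exact Finset.sum_eq_zero fun k _ => by rw [hcon, mul_zero]
    rw [hAB, one_apply_eq] at h1
    exact one_ne_zero h1
  have hp3 : 3 ≤ p ^ a := by
    have h1 := hp.out.two_le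
    have h2 : p ≤ p ^ a := Nat.le_self_pow (by omega) p
    omega
  have hodd : Odd (p ^ a) := (hp.out.odd_of_ne_two hp2).pow
  have hc1 : c ≠ 1 := by
    rintro rfl
    rw [orderOf_one] at hc
    omega
  have hc0 : c ≠ 0 := by
    rintro rfl
    rw [orderOf_zero] at hc
    omega
  have hc2 : c ^ 2 ≠ 1 := by
    intro h1
    have h2 := orderOf_dvd_of_pow_eq_one h1
    rw [hc] at h2
    have := Nat.le_of_dvd two_pos h2
    omega
  have hc3 : c ^ 3 = 1 → p ^ a = 3 := by
    intro h1
    have h2 := orderOf_dvd_of_pow_eq_one h1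
    rw [hc] at h2
    have := Nat.le_of_dvd (by norm_num) h2
    omega
  have hcc : c⁻¹ ≠ c := by
    intro h1
    apply hc2
    rw [pow_two]
    nth_rewrite 1 [← h1]
    exact inv_mul_cancel₀ hc0
  have hval : ∀ k : Fin n, dd c k = c ∨ dd c k = c⁻¹ ∨ dd c k = 1 := by
    intro k
    unfold dd
    split_ifs
    · exact Or.inl rfl
    · exact Or.inr (Or.inl rfl)
    · exact Or.inr (Or.inr rfl)
  have hv0 : ∀ k : Fin n, dd c k = c → (k : ℕ) = 0 := by
    intro k hk
    unfold dd at hk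
    split_ifs at hk with h1 h2
    · exact h1
    · exact absurd hk hcc
    · exact absurd hk.symm hc1
  have hv1 : ∀ k : Fin n, dd c k = c⁻¹ → (k : ℕ) = 1 := by
    intro k hk
    unfold dd at hk
    split_ifs at hk with h1 h2
    · exact absurd hk.symm hcc
    · exact h2
    · exact absurd (inv_eq_one.1 hk.symm) hc1
  let i0 : Fin n := ⟨0, by omega⟩
  let i1 : Fin n := ⟨1, by omega⟩
  let i2 : Fin n := ⟨2, by omega⟩
  have d0 : dd c i0 = c := if_pos rfl
  have d1 : dd c i1 = c⁻¹ := by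
    show (if (1 : ℕ) = 0 then c else if (1 : ℕ) = 1 then c⁻¹ else 1) = c⁻¹
    rw [if_neg one_ne_zero, if_pos rfl]
  have d2 : dd c i2 = 1 := by
    show (if (2 : ℕ) = 0 then c else if (2 : ℕ) = 1 then c⁻¹ else 1) = 1
    rw [if_neg two_ne_zero, if_neg (by norm_num)]
  -- two columns supported in the same row
  have key : 4 ≤ n → ∀ k0 : Fin n, ¬ (∀ k i : Fin n, 2 ≤ (i : ℕ) → A k i ≠ 0 → k = k0) := by
    intro h4 k0 hk
    let i3 : Fin n := ⟨3, by omega⟩
    have h5 : A *ᵥ (A k0 i3 • Pi.single i2 1 - A k0 i2 • Pi.single i3 1) = 0 := by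
      rw [mulVec_sub, mulVec_smul, mulVec_smul, mulVec_single_one, mulVec_single_one]
      funext k
      simp only [Pi.sub_apply, Pi.smul_apply, col_apply, smul_eq_mul, Pi.zero_apply]
      by_cases hkk : k = k0
      · subst hkk; ring
      · have h6 : A k i2 = 0 := by
          by_contra h6; exact hkk (hk k i2 (le_refl 2) h6)
        have h7 : A k i3 = 0 := by
          by_contra h7; exact hkk (hk k i3 (by show 2 ≤ 3; norm_num) h7)
        rw [h6, h7]; ring
    have h6 : (A k0 i3 • Pi.single i2 1 - A k0 i2 • Pi.single i3 1 : Fin n → F) = 0 := by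
      have h7 := congrArg (fun v => B *ᵥ v) h5
      simp only [mulVec_mulVec, hAB, one_mulVec, mulVec_zero] at h7
      exact h7
    have h7 := congrFun h6 i2
    have h23 : i2 ≠ i3 := by
      intro h8
      have := congrArg Fin.val h8
      simp only [i2, i3] at this
      omega
    simp only [Pi.sub_apply, Pi.smul_apply, Pi.single_eq_same, Pi.single_eq_of_ne h23, smul_eq_mul, mul_one, mul_zero,
      sub_zero, Pi.zero_apply] at h7
    obtain ⟨k, hk'⟩ := hcol i3
    have h8 := hk k i3 (by show 2 ≤ 3; norm_num) hk'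
    rw [h8] at hk'
    exact hk' h7
  have hdi : ∀ i : Fin n, 2 ≤ (i : ℕ) → dd c i = 1 := by
    intro i hi
    unfold dd
    rw [if_neg (by omega), if_neg (by omega)]
  obtain ⟨k2, hk2⟩ := hcol i2
  have e2 := hent k2 i2 hk2
  rw [d2] at e2
  rcases hval k2 with hk | hk | hk
  · -- `μ = c⁻¹`
    rw [hk] at e2
    have hμ : μ = c⁻¹ := (eq_inv_of_mul_eq_one_left e2.symm)
    exfalso
    have h3 : c ^ 3 = 1 := by
      obtain ⟨k, hk'⟩ := hcol i0
      have e3 := hent k i0 hk'
      rw [d0, hμ] at e3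
      rcases hval k with h5 | h5 | h5
      · rw [h5, inv_mul_cancel₀ hc0] at e3; exact absurd e3 hc1
      · rw [h5] at e3
        have h6 : c * (c * c) = 1 := by
          nth_rewrite 1 [e3]
          field_simp
        rw [← h6]; ring
      · rw [h5, mul_one] at e3; exact absurd e3.symm hcc
    have h4 := hc3 h3
    rcases hh with h5 | h5
    · refine key h5 i0 fun k i hi hki => ?_
      have e3 := hent k i hki
      rw [hdi i hi, hμ] at e3
      have h6 : dd c k = c := by
        have h7 : c * 1 = c * (c⁻¹ * dd c k) := by rw [e3]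
        rw [mul_inv_cancel_left₀ hc0, mul_one] at h7
        exact h7.symm
      exact Fin.ext (hv0 k h6)
    · exact h5 h4
  · -- `μ = c`
    rw [hk] at e2
    have hμ : μ = c := by
      have h7 := (mul_inv_eq_one₀ hc0).1 e2.symm
      exact h7
    exfalso
    have h3 : c ^ 3 = 1 := by
      obtain ⟨k, hk'⟩ := hcol i1
      have e3 := hent k i1 hk'
      rw [d1, hμ] at e3
      rcases hval k with h5 | h5 | h5
      · rw [h5] at e3
        have h6 : c * (c * c) = 1 := by
          rw [← e3, mul_inv_cancel₀ hc0]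
        rw [← h6]; ring
      · rw [h5, mul_inv_cancel₀ hc0] at e3; exact absurd (inv_eq_one.1 e3) hc1
      · rw [h5, mul_one] at e3; exact absurd e3 hcc
    have h4 := hc3 h3
    rcases hh with h5 | h5
    · refine key h5 i1 fun k i hi hki => ?_
      have e3 := hent k i hki
      rw [hdi i hi, hμ] at e3
      exact Fin.ext (hv1 k (eq_inv_of_mul_eq_one_right e3.symm))
    · exact h5 h4
  · rw [hk, mul_one] at e2
    exact e2.symm

/-- a matrix commuting with the diagonal fixes the first line -/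
theorem first_col (hn : 3 ≤ n) {c : F} {a : ℕ} (hp2 : p ≠ 2) (ha : 1 ≤ a) (hc : orderOf c = p ^ a)
    {A : Matrix (Fin n) (Fin n) F} (h : A * diagonal (dd c) = diagonal (dd c) * A) :
    A *ᵥ Pi.single ⟨0, by omega⟩ 1 = A ⟨0, by omega⟩ ⟨0, by omega⟩ • (Pi.single ⟨0, by omega⟩ 1 : Fin n → F) := by
  have hp3 : 3 ≤ p ^ a := by
    have h1 := hp.out.two_le
    have h2 : p ≤ p ^ a := Nat.le_self_pow (by omega) p
    omega
  have hc1 : c ≠ 1 := by
    rintro rfl
    rw [orderOf_one] at hc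
    omega
  have hc0 : c ≠ 0 := by
    rintro rfl
    rw [orderOf_zero] at hc
    omega
  have hcc : c⁻¹ ≠ c := by
    intro h1
    have h2 : c ^ 2 = 1 := by
      rw [pow_two]
      nth_rewrite 1 [← h1]
      exact inv_mul_cancel₀ hc0
    have h3 := orderOf_dvd_of_pow_eq_one h2
    rw [hc] at h3
    have := Nat.le_of_dvd two_pos h3
    omega
  rw [mulVec_single_one]
  funext k
  simp only [col_apply, Pi.smul_apply, smul_eq_mul]
  by_cases hk : k = ⟨0, by omega⟩
  · subst hk; rw [Pi.single_eq_same, mul_one]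
  · rw [Pi.single_eq_of_ne hk, mul_zero]
    by_contra hne
    have h1 := congrFun (congrFun h k) ⟨0, by omega⟩
    rw [mul_diagonal, diagonal_mul, mul_comm] at h1
    have h2 := mul_right_cancel₀ hne h1
    have h3 : (k : ℕ) ≠ 0 := fun h4 => hk (Fin.ext h4)
    have h4 : dd c (⟨0, by omega⟩ : Fin n) = c := if_pos rfl
    rw [h4] at h2
    unfold dd at h2
    rw [if_neg h3] at h2
    split_ifs at h2
    · exact hcc h2.symm
    · exact hc1 h2

/-- **The special case.** -/
theorem not_pcent_special {S : Type*} [Group S] [Finite S] (ρ : S →* Matrix (Fin n) (Fin n) F)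
    (hinj : Function.Injective ρ) (hZ : ∀ z ∈ center S, ∃ μ : F, ρ z = μ • 1)
    (hp2 : p ≠ 2) (hn : 3 ≤ n) (hpn : p ∣ n)
    (hdiag : ∀ t : Fin n → F, (∀ i, t i ^ p = 1) → ∏ i, t i = 1 → ∃ s : S, ρ s = diagonal t)
    (hperm : ∀ σ : Equiv.Perm (Fin n), Equiv.Perm.sign σ = 1 → ∃ s : S, ρ s = σ.permMatrix F)
    {ζ c : F} (hζ : orderOf ζ = p) {a : ℕ} (hc : orderOf c = p ^ a) (ha : 1 ≤ a)
    (hx : ∃ x : S, ρ x = diagonal (dd c)) (hh : 4 ≤ n ∨ p ^ a ≠ 3) : ¬ PCent p (S ⧸ center S) := by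
  intro hG
  obtain ⟨x, hx⟩ := hx
  obtain ⟨σ, hσp, hσ⟩ := exists_perm (p := p) hpn
  obtain ⟨s, hs⟩ := hperm σ (sign_eq_one hp2 hσp)
  have hmv : ∀ v : Fin n → F, ρ s *ᵥ v = v ∘ σ := fun v => by rw [hs, permMatrix_mulVec]
  -- the order of `s`
  have hsm : ∀ (m : ℕ) (v : Fin n → F), ρ (s ^ m) *ᵥ v = v ∘ (σ ^ m : Equiv.Perm (Fin n)) := by
    intro m
    induction m with
    | zero => intro v; rw [pow_zero, map_one, one_mulVec, pow_zero]; rfl
    | succ m ih =>
      intro v
      rw [pow_succ, map_mul, ← mulVec_mulVec, hmv, ih, pow_succ']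
      rfl
  have hsp : s ^ p = 1 := by
    apply hinj
    rw [map_one]
    apply Matrix.ext_of_mulVec_single
    intro i
    rw [hsm, hσp, one_mulVec]
    rfl
  -- the diagonal group
  let T : Subgroup S :=
    { carrier := {y | ∃ t : Fin n → F, (∀ i, t i ^ p = 1) ∧ ρ y = diagonal t}
      one_mem' := ⟨fun _ => 1, fun _ => one_pow p, by rw [map_one]; exact diagonal_one.symm⟩
      mul_mem' := by
        rintro y z ⟨t, ht, ht'⟩ ⟨u, hu, hu'⟩
        exact ⟨fun i => t i * u i, fun i => by rw [mul_pow, ht, hu, one_mul], by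
          rw [map_mul, ht', hu', diagonal_mul_diagonal]⟩
      inv_mem' := by
        rintro y ⟨t, ht, ht'⟩
        refine ⟨fun i => (t i)⁻¹, fun i => by rw [inv_pow, ht, inv_one], ?_⟩
        have h0 : ∀ i, t i ≠ 0 := by
          intro i h0
          have := ht i
          rw [h0, zero_pow hp.out.ne_zero] at this
          exact zero_ne_one this
        have h1 : ρ y * ρ y⁻¹ = 1 := by rw [← map_mul, mul_inv_cancel, map_one]
        have h2 : diagonal (fun i => (t i)⁻¹) * ρ y = 1 := by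
          rw [ht', diagonal_mul_diagonal]
          rw [← diagonal_one]
          congr 1
          funext i
          exact inv_mul_cancel₀ (h0 i)
        calc ρ y⁻¹ = (diagonal (fun i => (t i)⁻¹) * ρ y) * ρ y⁻¹ := by rw [h2, one_mul]
          _ = _ := by rw [mul_assoc, h1, mul_one] }
  have hTp : IsPGroup p ↥T := by
    rintro ⟨y, t, ht, ht'⟩
    refine ⟨1, Subtype.ext ?_⟩
    show y ^ p ^ 1 = 1
    apply hinj
    rw [pow_one, map_pow, ht', diagonal_pow, map_one, ← diagonal_one]
    congr 1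
    funext i
    exact ht i
  have hsT : IsPGroup p ↥(zpowers s) := by
    rintro ⟨y, m, rfl⟩
    refine ⟨1, Subtype.ext ?_⟩
    show (s ^ m) ^ p ^ 1 = 1
    rw [pow_one, ← zpow_natCast, ← _root_.zpow_mul, mul_comm, _root_.zpow_mul, zpow_natCast, hsp, _root_.one_zpow]
  have hconj : ∀ y ∈ T, s * y * s⁻¹ ∈ T := by
    rintro y ⟨t, ht, ht'⟩
    refine ⟨t ∘ σ, fun i => ht _, ?_⟩
    have h1 : ρ s * ρ y = diagonal (t ∘ σ) * ρ s := by
      apply Matrix.ext_of_mulVec_single
      intro i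
      rw [← mulVec_mulVec, ← mulVec_mulVec, hmv, ht', hmv]
      funext j
      rw [Function.comp_apply, mulVec_diagonal, mulVec_diagonal]
      rfl
    have h2 : ρ s * ρ s⁻¹ = 1 := by rw [← map_mul, mul_inv_cancel, map_one]
    rw [map_mul, map_mul, h1, mul_assoc, h2, mul_one]
  have hnorm : zpowers s ≤ normalizer (T : Set S) := by
    rw [zpowers_le]
    have hpow : ∀ (m : ℕ), ∀ y ∈ T, s ^ m * y * (s ^ m)⁻¹ ∈ T := by
      intro m
      induction m with
      | zero => intro y hy; simpa using hy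
      | succ m ih =>
        intro y hy
        have h1 := hconj _ (ih y hy)
        have h2 : s ^ (m + 1) * y * (s ^ (m + 1))⁻¹ = s * (s ^ m * y * (s ^ m)⁻¹) * s⁻¹ := by
          rw [pow_succ']; group
        rw [h2]; exact h1
    rw [Subgroup.mem_set_normalizer_iff]
    intro y
    refine ⟨hconj y, fun hy => ?_⟩
    have h1 := hpow (p - 1) _ hy
    have h2 : s ^ (p - 1) * s = 1 := by
      rw [← pow_succ, Nat.sub_add_cancel hp.out.one_lt.le, hsp]
    have h3 : s ^ (p - 1) * (s * y * s⁻¹) * (s ^ (p - 1))⁻¹ = y := by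
      have h4 : s ^ (p - 1) = s⁻¹ := eq_inv_of_mul_eq_one_left h2
      rw [h4]; group
    rwa [h3] at h1
  have hYp : IsPGroup p ↥(zpowers s ⊔ T : Subgroup S) := IsPGroup.to_sup_of_normal_right' hsT hTp hnorm
  -- the Sylow subgroup of the quotient
  obtain ⟨P, hP⟩ := (hYp.map (QuotientGroup.mk' (center S))).exists_le_sylow
  have hxo : ∃ k : ℕ, orderOf (x : S ⧸ center S) = p ^ k := by
    have h1 : x ^ p ^ a = 1 := by
      apply hinj
      rw [map_pow, hx, diagonal_pow, map_one, ← diagonal_one]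
      congr 1
      funext i
      show dd c i ^ p ^ a = 1
      have h2 : c ^ p ^ a = 1 := hc ▸ pow_orderOf_eq_one c
      unfold dd
      split_ifs
      · exact h2
      · rw [inv_pow, h2, inv_one]
      · exact one_pow _
    have h2 : (x : S ⧸ center S) ^ p ^ a = 1 := by
      rw [← QuotientGroup.mk_pow, h1]; rfl
    obtain ⟨j, -, hj⟩ := (Nat.dvd_prime_pow hp.out).1 (orderOf_dvd_of_pow_eq_one h2)
    exact ⟨j, hj⟩
  obtain ⟨g', -, hg'⟩ := hG.conj_center P hxo
  obtain ⟨g, rfl⟩ := QuotientGroup.mk_surjective g'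
  -- the common line
  let e0 : Fin n → F := Pi.single ⟨0, by omega⟩ 1
  have he0 : e0 ≠ 0 := by
    intro h1
    have := congrFun h1 ⟨0, by omega⟩
    simp only [e0, Pi.single_eq_same, Pi.zero_apply] at this
    exact one_ne_zero this
  have hline : ∀ y ∈ (zpowers s ⊔ T : Subgroup S), ∃ l : F, ρ y *ᵥ (ρ g⁻¹ *ᵥ e0) = l • (ρ g⁻¹ *ᵥ e0) := by
    intro y hy
    have h1 := hg' (y : S ⧸ center S) (hP ⟨y, hy, rfl⟩)
    have h2 : ((y * (g⁻¹ * x * g) : S) : S ⧸ center S) = ((g⁻¹ * x * g * y : S) : S ⧸ center S) := h1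
    rw [QuotientGroup.eq] at h2
    -- `g⁻¹ x g y = y (g⁻¹ x g) z`
    obtain ⟨μ, hμ⟩ := hZ _ h2
    set z := (y * (g⁻¹ * x * g))⁻¹ * (g⁻¹ * x * g * y) with hz
    have h3 : x * (g * y * g⁻¹) = (g * y * g⁻¹) * x * z := by
      have hzc : ∀ w : S, w * z = z * w := fun w => (mem_center_iff.1 h2 w)
      have h4 : y * (g⁻¹ * x * g) * z = g⁻¹ * x * g * y := by rw [hz]; group
      calc x * (g * y * g⁻¹) = g * (g⁻¹ * x * g * y) * g⁻¹ := by group
        _ = g * (y * (g⁻¹ * x * g) * z) * g⁻¹ := by rw [h4]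
        _ = (g * y * g⁻¹) * x * (g * z) * g⁻¹ := by group
        _ = (g * y * g⁻¹) * x * (z * g) * g⁻¹ := by rw [hzc]
        _ = _ := by group
    let A := ρ (g * y * g⁻¹)
    let B := ρ (g * y * g⁻¹)⁻¹
    have hBA : B * A = 1 := by
      show ρ _ * ρ _ = 1
      rw [← map_mul, inv_mul_cancel, map_one]
    have h4 : diagonal (dd c) * A = μ • (A * diagonal (dd c)) := by
      have h5 := congrArg ρ h3
      rw [map_mul ρ x, map_mul ρ (g * y * g⁻¹ * x) z, map_mul ρ (g * y * g⁻¹) x, hx, hμ, mul_smul_comm, mul_one] at h5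
      exact h5
    have hμ0 : μ ≠ 0 := by
      rintro rfl
      rw [zero_smul] at h4
      have h5 : diagonal (dd c) = (0 : Matrix (Fin n) (Fin n) F) := by
        have hAB : A * B = 1 := by
          show ρ _ * ρ _ = 1
          rw [← map_mul, mul_inv_cancel, map_one]
        calc diagonal (dd c) = diagonal (dd c) * A * B := by rw [mul_assoc, hAB, mul_one]
          _ = 0 := by rw [h4, zero_mul]
      have h6 : ρ x = 0 := hx.trans h5
      have h7 : ρ x * ρ x⁻¹ = 1 := by rw [← map_mul, mul_inv_cancel, map_one]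
      rw [h6, zero_mul] at h7
      have h8 := congrFun (congrFun h7 ⟨0, by omega⟩) ⟨0, by omega⟩
      rw [Matrix.one_apply_eq, Matrix.zero_apply] at h8
      exact zero_ne_one h8
    have h5 : A * diagonal (dd c) = μ⁻¹ • (diagonal (dd c) * A) := by
      rw [h4, smul_smul, inv_mul_cancel₀ hμ0, one_smul]
    have h6 := scalar_eq_one hn hp2 ha hc hh hBA h5
    rw [h6, one_smul] at h5
    have h7 := first_col hn hp2 ha hc h5
    refine ⟨A ⟨0, by omega⟩ ⟨0, by omega⟩, ?_⟩
    have h8 : ρ y * ρ g⁻¹ = ρ g⁻¹ * A := by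
      show _ = ρ g⁻¹ * ρ (g * y * g⁻¹)
      rw [← map_mul, ← map_mul]
      congr 1
      group
    rw [mulVec_mulVec, h8, ← mulVec_mulVec, h7, mulVec_smul]
  have hb : ρ g⁻¹ *ᵥ e0 ≠ 0 := by
    intro h1
    apply he0
    have h2 : ρ g *ᵥ (ρ g⁻¹ *ᵥ e0) = e0 := by
      rw [mulVec_mulVec, ← map_mul, mul_inv_cancel, map_one, one_mulVec]
    rw [← h2, h1, mulVec_zero]
  refine no_line hn hζ hσ hb ?_ ?_
  · intro t ht ht1
    obtain ⟨y, hy⟩ := hdiag t ht ht1
    obtain ⟨l, hl⟩ := hline y (mem_sup_right ⟨t, ht, hy⟩)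
    refine ⟨l, fun i => ?_⟩
    have h1 := congrFun hl i
    rw [hy, mulVec_diagonal] at h1
    exact h1
  · obtain ⟨l, hl⟩ := hline s (mem_sup_left (mem_zpowers s))
    refine ⟨l, fun i => ?_⟩
    have h1 := congrFun hl i
    rw [hmv] at h1
    exact h1

end

end Cfsg.Agent.H567.Gap
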