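import Cfsg.Agent.H567.GapNum
import Cfsg.Agent.H567.GapSpecial
import Cfsg.Agent.S0243
import Cfsg.Agent.S0265

/-!
# Linear groups in cross characteristic (helper567)

`comm_of_pcent_PSL` : `p` odd, not dividing `q`; if all `p`-elements of `PSL_n(q)` have class size prime to `p` then the Sylow
`p`-subgroups of `PSL_n(q)` are abelian.
-/

set_option autoImplicit false
set_option linter.unusedSectionVars false

namespace Cfsg.Agent.H567.Gap

open Subgroup Cfsg.Agent.H573 Matrix

section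
variable {p : ℕ} [hp : Fact p.Prime]

/-- `S × Z → A` -/
theorem AbOrGap.of_central {S A Z : Type*} [Group S] [Group A] [CommGroup Z] [Finite S] [Finite A] [Finite Z]
    (f : S →* A) (g : Z →* A) (hf : Function.Injective f) (hcomm : ∀ s z, Commute (f s) (g z))
    (hker : ∀ s z, f s * g z = 1 → z ^ p = 1 → z = 1) (hcard : PLe p (Nat.card A) (Nat.card S * Nat.card Z))
    (h : AbOrGap p A) : AbOrGap p S := by
  refine AbOrGap.of_prod (Z := Z) (fun a b => mul_comm a b) ?_
  refine AbOrGap.comap (MonoidHom.noncommCoprod f g hcomm) ?_ (fun k hk => ?_) h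
  · intro hd
    obtain ⟨⟨⟨s, z⟩, hsz⟩, ho⟩ := exists_prime_orderOf_dvd_card' p hd
    have h1 : f s * g z = 1 := hsz
    have h2 : ((⟨(s, z), hsz⟩ : ↥(MonoidHom.noncommCoprod f g hcomm).ker)) ^ p = 1 := ho ▸ pow_orderOf_eq_one _
    have h3 : z ^ p = 1 := congrArg (fun t => ((t : ↥(MonoidHom.noncommCoprod f g hcomm).ker) : S × Z).2) h2
    have h4 := hker s z h1 h3
    have h5 : s = 1 := by
      rw [h4, map_one, mul_one] at h1
      exact hf (h1.trans (map_one f).symm)
    have h6 : (⟨(s, z), hsz⟩ : ↥(MonoidHom.noncommCoprod f g hcomm).ker) = 1 :=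
      Subtype.ext (Prod.ext h5 h4)
    rw [h6, orderOf_one] at ho
    exact hp.out.one_lt.ne ho
  · rw [Nat.card_prod]; exact hcard k hk

/-- groups of order at most `p ^ 2` -/
theorem comm_of_not_cube_dvd {G : Type*} [Group G] [Finite G] (h : ¬ p ^ 3 ∣ Nat.card G) (P : Sylow p G)
    (a b : ↥(P : Subgroup G)) : a * b = b * a := by
  obtain ⟨k, hk⟩ := (IsPGroup.iff_card).1 P.isPGroup'
  have h1 : k < 3 := by
    by_contra h2
    exact h ((pow_dvd_pow p (by omega)).trans (hk ▸ Subgroup.card_subgroup_dvd_card (P : Subgroup G)))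
  interval_cases k
  · have : Subsingleton ↥(P : Subgroup G) := (Nat.card_eq_one_iff_unique.1 (by rw [hk, pow_zero])).1
    exact Subsingleton.elim _ _
  · rw [pow_one] at hk
    have hc : IsCyclic ↥(P : Subgroup G) := isCyclic_of_prime_card hk
    exact hc.isMulCommutative.is_comm.comm a b
  · exact (IsPGroup.isMulCommutative_of_card_eq_prime_sq hk).is_comm.comm a b

/-- Sylow subgroups of `SL_n / Z` -/
theorem abOrGap_PSL_of {F : Type*} [Field F] [Fintype F] {n : ℕ} (hn : 2 ≤ n) (hpF : ¬ p ∣ Fintype.card F)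
    (h : ¬ (p ∣ Fintype.card F - 1 ∧ p ∣ n)) : AbOrGap p (Matrix.ProjectiveSpecialLinearGroup (Fin n) F) := by
  have hne : Nonempty (Fin n) := ⟨⟨0, by omega⟩⟩
  have h1q : 1 < Fintype.card F := Fintype.one_lt_card
  have hcu : Nat.card Fˣ = Fintype.card F - 1 := by rw [Nat.card_units, Nat.card_eq_fintype_card]
  have hcard := Cfsg.Agent.S0265.card_GL_eq_SL (F := F) (n := n) (by omega)
  rw [hcu] at hcard
  have hinj : Function.Injective (SpecialLinearGroup.toGL : SpecialLinearGroup (Fin n) F →* GL (Fin n) F) := by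
    intro a b hab
    exact Subtype.ext (congrArg Units.val hab)
  -- the centre
  have hcen : ¬ p ∣ Nat.card ↥(center (SpecialLinearGroup (Fin n) F)) := by
    intro hd
    obtain ⟨⟨z, hz⟩, ho⟩ := exists_prime_orderOf_dvd_card' p hd
    obtain ⟨μ, hμ1, hμ2⟩ := Matrix.SpecialLinearGroup.mem_center_iff.1 hz
    rw [Fintype.card_fin] at hμ1
    have h2 : z ^ p = 1 := by
      have := pow_orderOf_eq_one (⟨z, hz⟩ : ↥(center (SpecialLinearGroup (Fin n) F)))
      rw [ho] at this
      exact congrArg Subtype.val this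
    have h3 : μ ^ p = 1 := by
      have h4 : (z : Matrix (Fin n) (Fin n) F) ^ p = 1 := by
        rw [← Matrix.SpecialLinearGroup.coe_pow, h2, Matrix.SpecialLinearGroup.coe_one]
      rw [← hμ2, ← map_pow] at h4
      have h5 := congrFun (congrFun h4 ⟨0, by omega⟩) ⟨0, by omega⟩
      rw [scalar_apply, diagonal_apply_eq, one_apply_eq] at h5
      exact h5
    have h4 : μ = 1 := by
      by_cases hpn : p ∣ n
      · have h5 : ¬ p ∣ Fintype.card F - 1 := fun h6 => h ⟨h6, hpn⟩
        have hμ0 : μ ≠ 0 := by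
          rintro rfl
          rw [zero_pow hp.out.ne_zero] at h3
          exact zero_ne_one h3
        have h6 : (Units.mk0 μ hμ0) ^ p = 1 := by
          apply Units.ext
          simpa using h3
        have h7 : (Units.mk0 μ hμ0) ^ (Fintype.card F - 1) = 1 := by
          rw [← hcu]; exact pow_card_eq_one'
        have h8 : orderOf (Units.mk0 μ hμ0) ∣ Nat.gcd p (Fintype.card F - 1) :=
          Nat.dvd_gcd (orderOf_dvd_of_pow_eq_one h6) (orderOf_dvd_of_pow_eq_one h7)
        rw [(Nat.Prime.coprime_iff_not_dvd hp.out).2 h5, Nat.dvd_one, orderOf_eq_one_iff] at h8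
        have := congrArg Units.val h8
        simpa using this
      · have h8 : orderOf μ ∣ Nat.gcd p n := Nat.dvd_gcd (orderOf_dvd_of_pow_eq_one h3) (orderOf_dvd_of_pow_eq_one hμ1)
        rwa [(Nat.Prime.coprime_iff_not_dvd hp.out).2 hpn, Nat.dvd_one, orderOf_eq_one_iff] at h8
    have h5 : z = 1 := by
      apply Subtype.ext
      rw [← hμ2, h4, map_one]; rfl
    subst h5
    have : (⟨1, hz⟩ : ↥(center (SpecialLinearGroup (Fin n) F))) = 1 := rfl
    rw [this, orderOf_one] at ho
    exact hp.out.one_lt.ne ho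
  refine AbOrGap.quotient _ hcen ?_
  by_cases hpn : p ∣ n
  · have h5 : ¬ p ∣ Fintype.card F - 1 := fun h6 => h ⟨h6, hpn⟩
    refine AbOrGap.comap _ (ker_of_injective hinj) (fun k hk => ?_) (abOrGap_GL hpF n)
    rw [hcard] at hk
    exact pow_dvd_of_mul h5 hk
  · refine AbOrGap.of_central (A := GL (Fin n) F) (Z := Fˣ) SpecialLinearGroup.toGL (GeneralLinearGroup.scalar (Fin n)) hinj ?_ ?_ ?_
      (abOrGap_GL hpF n)
    · intro s z
      apply Units.ext
      show (s : Matrix (Fin n) (Fin n) F) * scalar (Fin n) (z : F) = scalar (Fin n) (z : F) * (s : Matrix (Fin n) (Fin n) F)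
      exact (scalar_commute (z : F) (fun r => mul_comm _ _) _).symm
    · intro s z h1 h2
      have h3 : (s : Matrix (Fin n) (Fin n) F) * scalar (Fin n) (z : F) = 1 := congrArg Units.val h1
      have h4 := congrArg det h3
      rw [det_mul, s.det_coe, one_mul, det_one, scalar_apply, det_diagonal, Finset.prod_const, Finset.card_univ,
        Fintype.card_fin] at h4
      have h5 : z ^ n = 1 := Units.ext (by simpa using h4)
      have h8 : orderOf z ∣ Nat.gcd p n := Nat.dvd_gcd (orderOf_dvd_of_pow_eq_one h2) (orderOf_dvd_of_pow_eq_one h5)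
      rwa [(Nat.Prime.coprime_iff_not_dvd hp.out).2 hpn, Nat.dvd_one, orderOf_eq_one_iff] at h8
    · intro k hk
      rw [hcu, mul_comm, ← hcard]
      exact hk

/-- **Linear groups.** -/
theorem comm_of_pcent_PSL {F : Type*} [Field F] [Fintype F] {n : ℕ} (hn : 2 ≤ n) (hp2 : p ≠ 2)
    (hpF : ¬ p ∣ Fintype.card F) (hG : PCent p (Matrix.ProjectiveSpecialLinearGroup (Fin n) F))
    (P : Sylow p (Matrix.ProjectiveSpecialLinearGroup (Fin n) F))
    (a b : ↥(P : Subgroup (Matrix.ProjectiveSpecialLinearGroup (Fin n) F))) : a * b = b * a := by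
  by_cases h : p ∣ Fintype.card F - 1 ∧ p ∣ n
  swap
  · exact (abOrGap_PSL_of hn hpF h).comm_of_pcent hG P a b
  obtain ⟨hpq, hpn⟩ := h
  have h1q : 1 < Fintype.card F := Fintype.one_lt_card
  have hcu : Nat.card Fˣ = Fintype.card F - 1 := by rw [Nat.card_units, Nat.card_eq_fintype_card]
  have hn3 : 3 ≤ n := by
    have h1 := Nat.le_of_dvd (by omega) hpn
    have h2 := hp.out.two_le
    omega
  have hq0 : Fintype.card F - 1 ≠ 0 := by omega
  set k := padicValNat p (Fintype.card F - 1) with hk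
  have hk1 : p ^ k ∣ Fintype.card F - 1 := pow_padicValNat_dvd
  have hk2 : ¬ p ^ (k + 1) ∣ Fintype.card F - 1 := pow_succ_padicValNat_not_dvd hq0
  have hk0 : 1 ≤ k := by
    by_contra h0
    obtain h0 : k = 0 := by omega
    rw [h0, zero_add, pow_one] at hk2
    exact hk2 hpq
  by_cases hh : 4 ≤ n ∨ p ^ k ≠ 3
  · exfalso
    have hcyc : IsCyclic Fˣ := inferInstance
    obtain ⟨y, hy⟩ := hcyc.exists_ofOrder_eq_natCard
    rw [hcu] at hy
    have hord : ∀ d, d ∣ Fintype.card F - 1 → ∃ u : Fˣ, orderOf u = d := by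
      intro d hd
      refine ⟨y ^ ((Fintype.card F - 1) / d), ?_⟩
      rw [orderOf_pow, hy, Nat.gcd_eq_right (Nat.div_dvd_of_dvd hd)]
      exact Nat.div_div_self hd hq0
    obtain ⟨ζ, hζ⟩ := hord p hpq
    obtain ⟨c, hc⟩ := hord _ hk1
    let ρ : SpecialLinearGroup (Fin n) F →* Matrix (Fin n) (Fin n) F :=
      { toFun := fun A => A.1, map_one' := rfl, map_mul' := fun _ _ => rfl }
    refine not_pcent_special (p := p) ρ (fun a b hab => Subtype.ext hab) ?_ hp2 hn3 hpn ?_ ?_ (ζ := ζ) (c := c)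
      (by rw [orderOf_units, hζ]) (by rw [orderOf_units, hc]) hk0 ?_ hh hG
    · intro z hz
      obtain ⟨μ, -, hμ⟩ := Matrix.SpecialLinearGroup.mem_center_iff.1 hz
      refine ⟨μ, ?_⟩
      show (z : Matrix (Fin n) (Fin n) F) = μ • 1
      rw [← hμ, smul_one_eq_diagonal]
      rfl
    · intro t _ ht
      exact ⟨⟨diagonal t, by rw [det_diagonal, ht]⟩, rfl⟩
    · intro σ hσ
      exact ⟨⟨σ.permMatrix F, by rw [det_permutation, hσ]; simp⟩, rfl⟩
    · refine ⟨⟨diagonal (dd (c : F)), ?_⟩, rfl⟩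
      rw [det_diagonal]
      obtain ⟨m, rfl⟩ : ∃ m, n = m + 2 := ⟨n - 2, by omega⟩
      rw [Fin.prod_univ_succ, Fin.prod_univ_succ]
      have h0 : dd (c : F) (0 : Fin (m + 2)) = c := if_pos rfl
      have h1 : dd (c : F) (Fin.succ (0 : Fin (m + 1))) = (c : F)⁻¹ := by
        unfold dd
        rw [if_neg (by simp), if_pos (by simp)]
      have h2 : ∀ i : Fin m, dd (c : F) (Fin.succ (Fin.succ i)) = 1 := by
        intro i
        unfold dd
        rw [if_neg (by simp), if_neg (by simp)]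
      rw [h0, h1, Finset.prod_congr rfl (fun i _ => h2 i), Finset.prod_const_one, mul_one,
        mul_inv_cancel₀ c.ne_zero]
  · push Not at hh
    obtain ⟨hn4, hk3⟩ := hh
    obtain rfl : n = 3 := by omega
    have hp3 : p = 3 := (Nat.prime_dvd_prime_iff_eq hp.out Nat.prime_three).1 hpn
    refine comm_of_not_cube_dvd (fun hd => ?_) P a b
    have hc := Cfsg.Agent.S0243.result (F := F) rfl 3 (by norm_num)
    subst hp3
    have hk1' : k = 1 := by
      have h1 : 3 ^ k = 3 ^ 1 := by rw [hk3, pow_one]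
      exact Nat.pow_right_injective (le_refl 2 |>.trans (by norm_num)) h1
    rw [hk1'] at hk2
    obtain ⟨u, hu⟩ := hpq
    set q := Fintype.card F with hq
    have hqu : q = 3 * u + 1 := by omega
    have h3u : ¬ 3 ∣ u := by
      rintro ⟨v, rfl⟩
      apply hk2
      rw [hu]
      exact ⟨v, by ring⟩
    have hg : Nat.gcd 3 (q - 1) = 3 := by rw [hu]; exact Nat.gcd_eq_left ⟨u, rfl⟩
    rw [hg, hu] at hc
    obtain ⟨m, hm⟩ := hd
    rw [hm, Fin.prod_univ_three] at hc
    simp only [Fin.val_zero, Fin.val_one, Fin.val_two, pow_zero, pow_one] at hc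
    have e1 : q ^ 3 - 1 = 9 * u * (3 * u ^ 2 + 3 * u + 1) := by
      rw [hqu]
      apply Nat.sub_eq_of_eq_add
      ring
    have e2 : q ^ 3 - q = 3 * u * (3 * u + 2) * q := by
      rw [hqu]
      apply Nat.sub_eq_of_eq_add
      ring
    have e3 : q ^ 3 - q ^ 2 = 3 * u * q ^ 2 := by
      rw [hqu]
      apply Nat.sub_eq_of_eq_add
      ring
    rw [e1, e2, e3] at hc
    have hc' : 81 * (3 * (u * m)) = 81 * (u * u * u * (3 * u ^ 2 + 3 * u + 1) * (3 * u + 2) * q ^ 3) := by
      calc 81 * (3 * (u * m)) = 3 * (3 * u * (3 ^ 3 * m)) := by ring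
        _ = _ := by rw [hc]; ring
    have hc2 := Nat.eq_of_mul_eq_mul_left (by norm_num) hc'
    have h3 : (3 : ℕ).Prime := Nat.prime_three
    have hd3 : 3 ∣ u * u * u * (3 * u ^ 2 + 3 * u + 1) * (3 * u + 2) * q ^ 3 := ⟨u * m, hc2.symm⟩
    rw [h3.dvd_mul, h3.dvd_mul, h3.dvd_mul, h3.dvd_mul, h3.dvd_mul] at hd3
    rcases hd3 with ((((h | h) | h) | h) | h) | h
    · exact h3u h
    · exact h3u h
    · exact h3u h
    · omega
    · omega
    · have := h3.dvd_of_dvd_pow h
      omega

end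

end Cfsg.Agent.H567.Gap
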