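import Cfsg.Agent.H567.GapGU
import Cfsg.Agent.H567.GapPSL
import Cfsg.Agent.S0280
import Cfsg.Agent.H372.Unit
import Cfsg.Agent.ClassicalGeometry.GUBasic

/-!
# Unitary groups in cross characteristic (helper567)

`comm_of_pcent_PSU` : `p` odd, not dividing `q`; if all `p`-elements of `PSU_n(q)` have class size prime to `p` then the Sylow
`p`-subgroups of `PSU_n(q)` are abelian.
-/

set_option autoImplicit false
set_option linter.unusedSectionVars false

namespace Cfsg.Agent.H567.Gap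

open Subgroup Cfsg Cfsg.Agent.H573 Cfsg.Agent.LieClassical.HermBasic

section
variable {p : ℕ} [hp : Fact p.Prime] {F : Type*} [Field F] [Fintype F] {n q : ℕ}

omit [Fintype F] in
/-- diagonal unitary matrices -/
theorem herm_diagonal {t : Fin n → F} (ht : ∀ i, t i ^ (q + 1) = 1) (u v : Fin n → F) :
    hermForm n F q (Matrix.mulVec (Matrix.diagonal t) u) (Matrix.mulVec (Matrix.diagonal t) v) = hermForm n F q u v := by
  unfold hermForm
  refine Finset.sum_congr rfl fun i _ => ?_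
  rw [Matrix.mulVec_diagonal, Matrix.mulVec_diagonal, mul_pow]
  have h := ht i
  rw [pow_succ] at h
  calc t i * u i * (t i ^ q * v i ^ q) = (t i ^ q * t i) * (u i * v i ^ q) := by ring
    _ = _ := by rw [h, one_mul]

omit [Fintype F] in
/-- permutation matrices -/
theorem herm_perm (σ : Equiv.Perm (Fin n)) (u v : Fin n → F) :
    hermForm n F q (Matrix.mulVec (σ.permMatrix F) u) (Matrix.mulVec (σ.permMatrix F) v) = hermForm n F q u v := by
  rw [Matrix.permMatrix_mulVec, Matrix.permMatrix_mulVec]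
  unfold hermForm
  exact Equiv.sum_comp σ (fun i => u i * v i ^ q)

/-- `SU_n → GU_n` -/
def suGU (n : ℕ) (F : Type*) [Field F] (q : ℕ) : SU n F q →* GU n F q :=
  (Matrix.SpecialLinearGroup.toGL.comp (SU n F q).subtype).codRestrict (GU n F q) fun x => x.2

theorem suGU_injective : Function.Injective (suGU n F q) := by
  intro a b h
  apply Subtype.ext
  apply Subtype.ext
  exact congrArg (fun x : GU n F q => ((x : Matrix.GeneralLinearGroup (Fin n) F) : Matrix (Fin n) (Fin n) F)) h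

/-- the scalars in `GU_n` -/
def scGU (n : ℕ) (F : Type*) [Field F] (q : ℕ) : ↥(powMonoidHom (q + 1) : Fˣ →* Fˣ).ker →* GU n F q :=
  ((Matrix.GeneralLinearGroup.scalar (Fin n)).comp (powMonoidHom (q + 1) : Fˣ →* Fˣ).ker.subtype).codRestrict (GU n F q)
    fun x => by
      intro u v
      have h1 : ((x : Fˣ) : F) ^ (q + 1) = 1 := by
        have h2 : (x : Fˣ) ^ (q + 1) = 1 := x.2
        rw [← Units.val_pow_eq_pow_val, h2, Units.val_one]
      exact herm_diagonal (t := fun _ => ((x : Fˣ) : F)) (fun _ => h1) u v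

theorem card_ker_pow' (hF : Fintype.card F = q ^ 2) : Nat.card ↥(powMonoidHom (q + 1) : Fˣ →* Fˣ).ker = q + 1 := by
  rw [IsCyclic.card_powMonoidHom_ker, Nat.card_units, Nat.card_eq_fintype_card, hF]
  have h2 := two_le hF
  have h3 : q ^ 2 - 1 = (q - 1) * (q + 1) := by
    have := Nat.sq_sub_sq q 1
    rw [one_pow] at this
    rw [this, mul_comm]
  rw [h3]
  exact Nat.gcd_eq_right ⟨q - 1, mul_comm _ _⟩

theorem abOrGap_PSU_of (hF : Fintype.card F = q ^ 2) (hn : 3 ≤ n) (hp2 : p ≠ 2) (hpq : ¬ p ∣ q)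
    (h : ¬ (p ∣ q + 1 ∧ p ∣ n)) : AbOrGap p (PSU n F q) := by
  have hcard := Cfsg.Agent.LieClassical.GUOrder.card_GU_eq hF (n := n) (by omega)
  have hcen : ¬ p ∣ Nat.card ↥(center (SU n F q)) := by
    rw [Cfsg.Agent.S0280.card_center hF n (by omega)]
    intro h1
    exact h ⟨h1.trans (Nat.gcd_dvd_right _ _), h1.trans (Nat.gcd_dvd_left _ _)⟩
  refine AbOrGap.quotient _ hcen ?_
  by_cases hpn : p ∣ n
  · have h5 : ¬ p ∣ q + 1 := fun h6 => h ⟨h6, hpn⟩
    refine AbOrGap.comap _ (ker_of_injective suGU_injective) (fun k hk => ?_) (abOrGap_GU hF hp2 hpq n)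
    rw [hcard] at hk
    exact pow_dvd_of_mul h5 hk
  · refine AbOrGap.of_central (suGU n F q) (scGU n F q) suGU_injective ?_ ?_ ?_ (abOrGap_GU hF hp2 hpq n)
    · intro s z
      apply Subtype.ext
      apply Units.ext
      show (s.1 : Matrix (Fin n) (Fin n) F) * Matrix.scalar (Fin n) ((z : Fˣ) : F) =
        Matrix.scalar (Fin n) ((z : Fˣ) : F) * (s.1 : Matrix (Fin n) (Fin n) F)
      exact (Matrix.scalar_commute ((z : Fˣ) : F) (fun r => mul_comm _ _) _).symm
    · intro s z h1 h2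
      have h3 : (s.1 : Matrix (Fin n) (Fin n) F) * Matrix.scalar (Fin n) ((z : Fˣ) : F) = 1 :=
        congrArg (fun x : GU n F q => ((x : Matrix.GeneralLinearGroup (Fin n) F) : Matrix (Fin n) (Fin n) F)) h1
      have h4 := congrArg Matrix.det h3
      rw [Matrix.det_mul, s.1.det_coe, one_mul, Matrix.det_one, Matrix.scalar_apply, Matrix.det_diagonal,
        Finset.prod_const, Finset.card_univ, Fintype.card_fin] at h4
      have h5 : z ^ n = 1 := Subtype.ext (Units.ext (by simpa using h4))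
      have h8 : orderOf z ∣ Nat.gcd p n := Nat.dvd_gcd (orderOf_dvd_of_pow_eq_one h2) (orderOf_dvd_of_pow_eq_one h5)
      rwa [(Nat.Prime.coprime_iff_not_dvd hp.out).2 hpn, Nat.dvd_one, orderOf_eq_one_iff] at h8
    · intro k hk
      rw [card_ker_pow' hF, mul_comm, ← hcard]
      exact hk

/-- the matrix -/
def matHom (n : ℕ) (F : Type*) [Field F] (q : ℕ) : SU n F q →* Matrix (Fin n) (Fin n) F where
  toFun A := A.1.1
  map_one' := rfl
  map_mul' _ _ := rfl

theorem matHom_injective : Function.Injective (matHom n F q) := fun _ _ h => Subtype.ext (Subtype.ext h)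

theorem exists_su {M : Matrix (Fin n) (Fin n) F} (hd : M.det = 1)
    (h : ∀ u v, hermForm n F q (M.mulVec u) (M.mulVec v) = hermForm n F q u v) : ∃ s : SU n F q, matHom n F q s = M :=
  ⟨⟨⟨M, hd⟩, h⟩, rfl⟩

theorem prod_dd {m : ℕ} {c : F} (hc : c ≠ 0) : ∏ i, dd c (i : Fin (m + 2)) = 1 := by
  rw [Fin.prod_univ_succ, Fin.prod_univ_succ]
  have h0 : dd c (0 : Fin (m + 2)) = c := if_pos rfl
  have h1 : dd c (Fin.succ (0 : Fin (m + 1))) = c⁻¹ := by
    unfold dd
    rw [if_neg (by simp), if_pos (by simp)]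
  have h2 : ∀ i : Fin m, dd c (Fin.succ (Fin.succ i)) = 1 := by
    intro i
    unfold dd
    rw [if_neg (by simp), if_neg (by simp)]
  rw [h0, h1, Finset.prod_congr rfl (fun i _ => h2 i), Finset.prod_const_one, mul_one, mul_inv_cancel₀ hc]

/-- **Unitary groups.** -/
theorem comm_of_pcent_PSU (hF : Fintype.card F = q ^ 2) (hn : 3 ≤ n) (hp2 : p ≠ 2) (hpq : ¬ p ∣ q)
    (hG : PCent p (PSU n F q)) (P : Sylow p (PSU n F q)) (a b : ↥(P : Subgroup (PSU n F q))) : a * b = b * a := by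
  by_cases h : p ∣ q + 1 ∧ p ∣ n
  swap
  · exact (abOrGap_PSU_of hF hn hp2 hpq h).comm_of_pcent hG P a b
  obtain ⟨hpq1, hpn⟩ := h
  have hcu : Nat.card Fˣ = q ^ 2 - 1 := by rw [Nat.card_units, Nat.card_eq_fintype_card, hF]
  have hq2 := two_le hF
  have hqq : q ^ 2 - 1 = (q + 1) * (q - 1) := by
    have := Nat.sq_sub_sq q 1
    rwa [one_pow] at this
  have hq0 : q + 1 ≠ 0 := by omega
  have hqq0 : q ^ 2 - 1 ≠ 0 := by
    rw [hqq]; exact Nat.mul_ne_zero (by omega) (by omega)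
  set k := padicValNat p (q + 1) with hk
  have hk1 : p ^ k ∣ q + 1 := pow_padicValNat_dvd
  have hk2 : ¬ p ^ (k + 1) ∣ q + 1 := pow_succ_padicValNat_not_dvd hq0
  have hk0 : 1 ≤ k := by
    by_contra h0
    obtain h0 : k = 0 := by omega
    rw [h0, zero_add, pow_one] at hk2
    exact hk2 hpq1
  by_cases hh : 4 ≤ n ∨ p ^ k ≠ 3
  · exfalso
    have hcyc : IsCyclic Fˣ := inferInstance
    obtain ⟨y, hy⟩ := hcyc.exists_ofOrder_eq_natCard
    rw [hcu] at hy
    have hord : ∀ d, d ∣ q ^ 2 - 1 → ∃ u : Fˣ, orderOf u = d := by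
      intro d hd
      refine ⟨y ^ ((q ^ 2 - 1) / d), ?_⟩
      rw [orderOf_pow, hy, Nat.gcd_eq_right (Nat.div_dvd_of_dvd hd)]
      exact Nat.div_div_self hd hqq0
    obtain ⟨ζ, hζ⟩ := hord p (hqq ▸ hpq1.mul_right _)
    obtain ⟨c, hc⟩ := hord _ (hqq ▸ hk1.mul_right _)
    refine not_pcent_special (p := p) (matHom n F q) matHom_injective ?_ hp2 hn hpn ?_ ?_ (ζ := ζ) (c := c)
      (by rw [orderOf_units, hζ]) (by rw [orderOf_units, hc]) hk0 ?_ hh hG
    · intro z hz
      obtain ⟨μ, -, hμ⟩ := H372.mat_center hF hn hz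
      refine ⟨μ, ?_⟩
      rw [Matrix.smul_one_eq_diagonal]
      exact hμ
    · intro t ht1 ht
      refine exists_su (by rw [Matrix.det_diagonal, ht]) (herm_diagonal fun i => ?_)
      obtain ⟨d, hd⟩ := hpq1
      rw [hd, pow_mul, ht1, one_pow]
    · intro σ hσ
      exact exists_su (by rw [Matrix.det_permutation, hσ]; simp) (herm_perm σ)
    · obtain ⟨m, rfl⟩ : ∃ m, n = m + 2 := ⟨n - 2, by omega⟩
      refine exists_su (by rw [Matrix.det_diagonal, prod_dd c.ne_zero]) (herm_diagonal fun i => ?_)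
      have h1 : (c : F) ^ (q + 1) = 1 := by
        have h2 : c ^ (q + 1) = 1 := by
          rw [← orderOf_dvd_iff_pow_eq_one, hc]; exact hk1
        rw [← Units.val_pow_eq_pow_val, h2, Units.val_one]
      unfold dd
      split_ifs
      · exact h1
      · rw [inv_pow, h1, inv_one]
      · exact one_pow _
  · push Not at hh
    obtain ⟨hn4, hk3⟩ := hh
    obtain rfl : n = 3 := by omega
    have hp3 : p = 3 := (Nat.prime_dvd_prime_iff_eq hp.out Nat.prime_three).1 hpn
    refine comm_of_not_cube_dvd (fun hd => ?_) P a b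
    have hc := Cfsg.Agent.S0280.result hF 3 (by norm_num)
    subst hp3
    have hk1' : k = 1 := by
      have h1 : 3 ^ k = 3 ^ 1 := by rw [hk3, pow_one]
      exact Nat.pow_right_injective (le_refl 2 |>.trans (by norm_num)) h1
    rw [hk1'] at hk2
    obtain ⟨u, hu⟩ := hpq1
    obtain ⟨v, rfl⟩ : ∃ v, u = v + 1 := ⟨u - 1, by omega⟩
    have hqu : q = 3 * v + 2 := by omega
    have h3u : ¬ 3 ∣ v + 1 := by
      rintro ⟨w, hw⟩
      apply hk2
      rw [hu, hw]
      exact ⟨w, by ring⟩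
    have hg : Nat.gcd 3 (q + 1) = 3 := by rw [hu]; exact Nat.gcd_eq_left ⟨v + 1, rfl⟩
    rw [hg] at hc
    obtain ⟨m, hm⟩ := hd
    rw [hm, Finset.prod_range_succ, Finset.prod_range_succ, Finset.prod_range_succ, Finset.prod_range_zero,
      if_pos (by decide), if_neg (by decide), if_pos (by decide)] at hc
    have e1 : q ^ (1 + 1) - 1 = 3 * (3 * v + 1) * (v + 1) := by
      rw [hqu]
      apply Nat.sub_eq_of_eq_add
      ring
    have e2 : q ^ (2 + 1) + 1 = 9 * (v + 1) * (3 * v ^ 2 + 3 * v + 1) := by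
      rw [hqu]
      ring
    have e3 : q ^ (0 + 1) + 1 = 3 * (v + 1) := by
      rw [hqu]
      ring
    rw [e1, e2, e3, hu] at hc
    have hc' : 81 * (3 * ((v + 1) * m)) = 81 * ((v + 1) * (v + 1) * (v + 1) * (3 * v ^ 2 + 3 * v + 1) * (3 * v + 1) * q ^ 3) := by
      calc 81 * (3 * ((v + 1) * m)) = 3 * (3 * (v + 1) * (3 ^ 3 * m)) := by ring
        _ = _ := by rw [hc]; ring
    have hc2 := Nat.eq_of_mul_eq_mul_left (by norm_num) hc'
    have h3 : (3 : ℕ).Prime := Nat.prime_three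
    have hd3 : 3 ∣ (v + 1) * (v + 1) * (v + 1) * (3 * v ^ 2 + 3 * v + 1) * (3 * v + 1) * q ^ 3 := ⟨(v + 1) * m, hc2.symm⟩
    rw [h3.dvd_mul, h3.dvd_mul, h3.dvd_mul, h3.dvd_mul, h3.dvd_mul] at hd3
    rcases hd3 with ((((h | h) | h) | h) | h) | h
    · exact h3u h
    · exact h3u h
    · exact h3u h
    · omega
    · omega
    · have := h3.dvd_of_dvd_pow h
      omega

end

end Cfsg.Agent.H567.Gap
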