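import Mathlib
import Cfsg.Prelude.Def_CaseTheorems
import Cfsg.Agent.Lib.Cores
import Cfsg.Agent.H388.Rad
import Cfsg.Agent.BpSpor.Act

/-!
# Subgroups of odd index with trivial 2-core in groups of characteristic 2 type (helper567)

`G` of characteristic 2 type, `M ≤ G` of odd index with `O₂(M) = 1`:
* `odd_centralizer` : every normal subgroup `N ≠ 1` of `M` has a centralizer of odd order in `M`;
* `two_pow_dvd_aut` : hence the 2-part of `|G|` divides `|Aut N|`;
* `trivRad` : numerical criterion for `M` to have no solvable normal subgroup `≠ 1`;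
* `om_unique` : a normal simple component is the only one.
-/

set_option autoImplicit false

namespace Cfsg.Agent.H567.OddOver

open Subgroup Cfsg
open Cfsg.Agent.H388.Rad

universe u

variable {G : Type u} [Group G]

theorem odd_centralizer [Finite G] (hG : IsCharacteristicTwoType G) {M : Subgroup G} (hM : pCore 2 ↥M = ⊥)
    (hidx : ¬ 2 ∣ M.index) {N : Subgroup ↥M} (hN : N.Normal) (hN1 : N ≠ ⊥) :
    Odd (Nat.card ↥(centralizer (N : Set ↥M))) := by
  by_contra hodd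
  rw [Nat.not_odd_iff_even, even_iff_two_dvd] at hodd
  have hfact : Fact (Nat.Prime 2) := ⟨Nat.prime_two⟩
  set C : Subgroup ↥M := centralizer (N : Set ↥M) with hC
  have hCn : C.Normal := by rw [hC]; infer_instance
  obtain ⟨t, ht⟩ := exists_prime_orderOf_dvd_card' 2 hodd
  have htp : IsPGroup 2 ↥(zpowers (t : ↥M)) := by
    refine IsPGroup.of_card (n := 1) ?_
    rw [Nat.card_zpowers, Subgroup.orderOf_coe, ht, pow_one]
  obtain ⟨P0, hP0⟩ := htp.exists_le_sylow
  have htP : (t : ↥M) ∈ (P0 : Subgroup ↥M) := hP0 (mem_zpowers _)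
  set D : Subgroup ↥M := (P0 : Subgroup ↥M) ⊓ C with hD
  have hD1 : D ≠ ⊥ := by
    intro h
    have h1 : (t : ↥M) ∈ D := ⟨htP, t.2⟩
    rw [h, mem_bot] at h1
    have h2 : orderOf (t : ↥M) = 2 := by rw [Subgroup.orderOf_coe, ht]
    rw [h1, orderOf_one] at h2
    exact absurd h2 (by norm_num)
  set D' : Subgroup G := D.map M.subtype with hD'
  have hD'p : IsPGroup 2 ↥D' := (P0.isPGroup'.to_le inf_le_left).map _
  have hD'1 : D' ≠ ⊥ := by
    intro h
    exact hD1 ((Subgroup.map_eq_bot_iff_of_injective _ M.subtype_injective).1 h)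
  set P' : Subgroup G := (P0 : Subgroup ↥M).map M.subtype with hP'
  have hP'p : IsPGroup 2 ↥P' := P0.isPGroup'.map _
  have hP'i : ¬ 2 ∣ P'.index := by
    have h1 : P'.index = (P0 : Subgroup ↥M).index * M.index := Subgroup.index_map_subtype (P0 : Subgroup ↥M)
    rw [h1, Nat.Prime.dvd_mul Nat.prime_two]
    rintro (h2 | h2)
    · exact P0.not_dvd_index h2
    · exact hidx h2
  set L : Subgroup G := normalizer (D' : Set G) with hL
  have hchar : IsOfCharacteristicTwo ↥L := hG.2 D' hD'p hD'1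
  have conjL : ∀ m : ↥M, (∀ x ∈ D, m * x * m⁻¹ ∈ D) → (m : G) ∈ L := by
    intro m hm
    refine Subgroup.mem_normalizer_fintype ?_
    rintro _ ⟨x, hx, rfl⟩
    exact ⟨m * x * m⁻¹, hm x hx, rfl⟩
  have hPL : P' ≤ L := by
    rintro _ ⟨x, hx, rfl⟩
    refine conjL x fun y hy => ⟨?_, hCn.conj_mem y hy.2 x⟩
    exact (P0 : Subgroup ↥M).mul_mem ((P0 : Subgroup ↥M).mul_mem hx hy.1) ((P0 : Subgroup ↥M).inv_mem hx)
  have hNL : ∀ n ∈ N, (n : G) ∈ L := by
    intro n hn
    refine conjL n fun y hy => ?_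
    have h1 : n * y = y * n := mem_centralizer_iff.1 hy.2 n hn
    rw [h1, mul_assoc, mul_inv_cancel, mul_one]
    exact hy
  -- `O₂(L) ≤ P'`
  have hQP : pCore 2 ↥L ≤ P'.subgroupOf L := by
    have h1 : IsPGroup 2 ↥(P'.subgroupOf L) := hP'p.comap_of_injective L.subtype L.subtype_injective
    have h2 : ¬ 2 ∣ (P'.subgroupOf L).index := by
      intro h3
      apply hP'i
      have h4 : P'.relIndex L ∣ P'.index := Dvd.intro _ (Subgroup.relIndex_mul_index hPL)
      exact (h3 : 2 ∣ P'.relIndex L).trans h4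
    exact Lib.Cores.pCore_le_sylow (h1.toSylow h2)
  set Q' : Subgroup G := (pCore 2 ↥L).map L.subtype with hQ'
  have hQ'p : IsPGroup 2 ↥Q' := (Lib.Cores.pCore_isPGroup 2).map _
  have hQ'P : Q' ≤ P' := by
    rintro _ ⟨x, hx, rfl⟩
    exact mem_subgroupOf.1 (hQP hx)
  have hQ'n : ∀ l ∈ L, ∀ q ∈ Q', l * q * l⁻¹ ∈ Q' := by
    rintro l hl _ ⟨q, hq, rfl⟩
    exact ⟨⟨l, hl⟩ * q * ⟨l, hl⟩⁻¹, (Lib.Cores.pCore_normal 2).conj_mem q hq _, rfl⟩
  set V : Subgroup ↥M := N ⊓ Q'.comap M.subtype with hV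
  have hVbot : V = ⊥ := by
    have h1 : (V.subgroupOf N).Normal := by
      refine ⟨fun v hv n => ?_⟩
      rw [mem_subgroupOf] at hv ⊢
      refine ⟨hN.conj_mem _ hv.1 _, ?_⟩
      exact hQ'n _ (hNL n n.2) _ hv.2
    have h2 : IsPGroup 2 ↥(V.subgroupOf N) := by
      have h3 : IsPGroup 2 ↥(Q'.comap M.subtype) := hQ'p.comap_of_injective _ M.subtype_injective
      exact (h3.to_le inf_le_right).comap_of_injective N.subtype N.subtype_injective
    have h3 := Lib.Cores.le_pCore h1 h2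
    have h4 : (pCore 2 ↥N).map N.subtype = ⊥ := by
      rw [Lib.Cores.map_subtype_pCore 2 hN, hM, inf_bot_eq]
    have h5 : pCore 2 ↥N = ⊥ := (Subgroup.map_eq_bot_iff_of_injective _ N.subtype_injective).1 h4
    rw [h5, le_bot_iff, subgroupOf_eq_bot, disjoint_iff] at h3
    rw [inf_eq_left.2 (inf_le_left : V ≤ N)] at h3
    exact h3
  -- `N` centralises `O₂(L)`
  have hcomm : ∀ n ∈ N, ∀ q ∈ Q', (n : G) * q = q * n := by
    intro n hn q hq
    obtain ⟨m, hm, rfl⟩ := hQ'P hq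
    have h1 : n * m * n⁻¹ * m⁻¹ ∈ V := by
      refine ⟨?_, ?_⟩
      · have h2 : n * (m * n⁻¹ * m⁻¹) ∈ N := N.mul_mem hn (hN.conj_mem _ (N.inv_mem hn) m)
        have e : n * m * n⁻¹ * m⁻¹ = n * (m * n⁻¹ * m⁻¹) := by group
        rwa [e]
      · have h2 := hQ'n _ (hNL n hn) _ hq
        exact Q'.mul_mem h2 (Q'.inv_mem hq)
    rw [hVbot, mem_bot] at h1
    have h2 : n * m = m * n := by
      have := mul_inv_eq_one.1 h1
      rw [mul_inv_eq_iff_eq_mul] at this
      exact this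
    exact congrArg Subtype.val h2
  have hNQ : ∀ n ∈ N, (n : G) ∈ Q' := by
    intro n hn
    have h1 : (⟨(n : G), hNL n hn⟩ : ↥L) ∈ centralizer (pCore 2 ↥L : Set ↥L) := by
      rw [mem_centralizer_iff]
      intro q hq
      exact Subtype.ext (hcomm n hn _ ⟨q, hq, rfl⟩).symm
    exact ⟨_, hchar h1, rfl⟩
  apply hN1
  rw [eq_bot_iff]
  intro n hn
  have h1 : n ∈ V := ⟨hn, hNQ n hn⟩
  rwa [hVbot] at h1

/-- a power of two dividing `|M|` divides `|Aut N|` if `C_M(N)` has odd order -/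
theorem two_pow_dvd_aut {M : Type*} [Group M] [Finite M] {N : Subgroup M} [N.Normal]
    (h : Odd (Nat.card ↥(centralizer (N : Set M)))) {a : ℕ} (ha : 2 ^ a ∣ Nat.card M) :
    2 ^ a ∣ Nat.card (MulAut ↥N) := by
  have hker : (MulAut.conjNormal : M →* MulAut ↥N).ker ≤ centralizer (N : Set M) := by
    intro m hm
    rw [mem_centralizer_iff]
    intro n hn
    have h1 : MulAut.conjNormal m (⟨n, hn⟩ : ↥N) = ⟨n, hn⟩ := by
      rw [MonoidHom.mem_ker] at hm
      rw [hm]; rfl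
    have h2 : m * n * m⁻¹ = n := congrArg Subtype.val h1
    rw [mul_inv_eq_iff_eq_mul] at h2
    exact h2.symm
  have hk : Odd (Nat.card ↥(MulAut.conjNormal : M →* MulAut ↥N).ker) :=
    Odd.of_dvd_nat h (Subgroup.card_dvd_of_le hker)
  have h1 : Nat.card M = Nat.card ↥(MulAut.conjNormal : M →* MulAut ↥N).ker *
      Nat.card ↥(MulAut.conjNormal : M →* MulAut ↥N).range := by
    rw [← Subgroup.index_ker, Subgroup.card_mul_index]
  rw [h1] at ha
  have h2 : (2 ^ a).Coprime (Nat.card ↥(MulAut.conjNormal : M →* MulAut ↥N).ker) :=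
    Nat.Coprime.pow_left _ ((Nat.coprime_two_left (n := _)).2 hk)
  exact (h2.dvd_of_dvd_mul_left ha).trans (Subgroup.card_subgroup_dvd_card _)

/-- the order of `GL_d(r)` -/
def glN (r d : ℕ) : ℕ := ∏ i : Fin d, (r ^ d - r ^ (i : ℕ))

/-- **Numerical criterion for a trivial radical.** -/
theorem trivRad [Finite G] (hG : IsCharacteristicTwoType G) {M : Subgroup G} (hM : pCore 2 ↥M = ⊥)
    (hidx : ¬ 2 ∣ M.index) {a : ℕ} (ha : 2 ^ a ∣ Nat.card ↥M)
    (hnum : ∀ r : ℕ, r.Prime → r ≠ 2 → ∀ d : ℕ, r ^ d ∣ Nat.card ↥M → ¬ 2 ^ a ∣ glN r d) : TrivRad ↥M := by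
  intro N hN hs
  by_contra hN1
  have hfin : {K : Subgroup ↥M | K.Normal ∧ K ≠ ⊥ ∧ K ≤ N}.Finite := Set.toFinite _
  obtain ⟨K, ⟨hKn, hK0, hKN⟩, hKmin⟩ := hfin.exists_minimal ⟨N, hN, hN1, le_rfl⟩
  have hmin : ∀ L : Subgroup ↥M, L.Normal → L ≤ K → L = ⊥ ∨ L = K := by
    intro L hL hLK
    by_cases hL0 : L = ⊥
    · exact Or.inl hL0
    · exact Or.inr (le_antisymm hLK (hKmin ⟨hL, hL0, hLK.trans hKN⟩ hLK))
  have hKs : Group.IsSolvable ↥K :=
    Group.isSolvable_of_isSolvable_injective (f := Subgroup.inclusion hKN) (Subgroup.inclusion_injective hKN)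
  have hab : ∀ x ∈ K, ∀ y ∈ K, Commute x y := by
    by_contra hna
    obtain ⟨⟨T, hT⟩, -, -, hsimp, hz, -⟩ := Lib.MinNormalNonabelian.nonabelian_structure K hmin hna
    have hTs := hsimp T hT
    have hTK : T ≤ K := hT.1
    have hTsol : Group.IsSolvable ↥T :=
      Group.isSolvable_of_isSolvable_injective (f := Subgroup.inclusion hTK) (Subgroup.inclusion_injective hTK)
    have hcomm : ∀ a b : ↥T, a * b = b * a := by
      have h1 := (IsSimpleGroup.comm_iff_isSolvable (G := ↥T)).2 hTsol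
      exact h1
    have hnt : Nontrivial ↥T := inferInstance
    obtain ⟨z, hz1⟩ := exists_ne (1 : ↥T)
    apply hz1
    exact Subtype.ext (hz T hT z z.2 fun t ht => congrArg Subtype.val (hcomm z ⟨t, ht⟩))
  obtain ⟨r, hr, hKr, -⟩ := Lib.MinNormalNonabelian.abelian_structure K hK0 hmin hab
  have hfr : Fact r.Prime := ⟨hr⟩
  have hr2 : r ≠ 2 := by
    rintro rfl
    have h1 := Lib.Cores.le_pCore hKn hKr
    rw [hM, le_bot_iff] at h1
    exact hK0 h1
  have h1 := two_pow_dvd_aut (odd_centralizer hG hM hidx hKn hK0) ha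
  obtain ⟨k, hk⟩ := (IsPGroup.iff_card).1 hKr
  obtain ⟨d, m, hd, -, h2⟩ := BpSpor.card_mulAut_dvd hKr hk
  have h3 : 2 ^ a ∣ r ^ m * glN r d := h1.trans h2
  have h4 : (2 ^ a).Coprime (r ^ m) := Nat.Coprime.pow _ _ ((Nat.coprime_primes Nat.prime_two hr).2 hr2.symm)
  refine hnum r hr hr2 d ?_ (h4.dvd_of_dvd_mul_left h3)
  exact (pow_dvd_pow r hd).trans (hk ▸ Subgroup.card_subgroup_dvd_card K)

/-- a normal simple component is the only one -/
theorem om_unique [Finite G] (hG : IsCharacteristicTwoType G) {M : Subgroup G} (hM : pCore 2 ↥M = ⊥)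
    (hidx : ¬ 2 ∣ M.index) {T₁ T₂ : Subgroup ↥M} (h₁ : T₁ ∈ Om ↥M) (h₂ : T₂ ∈ Om ↥M) (hn : T₁.Normal)
    (he : Even (Nat.card ↥T₂)) : T₁ = T₂ := by
  by_contra hne
  have h1 : T₁ ≠ ⊥ := by
    intro h
    have := h₁.2
    have h2 : Nontrivial ↥T₁ := inferInstance
    rw [h] at h2
    exact not_nontrivial_iff_subsingleton.2 inferInstance h2
  have h3 := odd_centralizer hG hM hidx hn h1
  have h4 : T₂ ≤ centralizer (T₁ : Set ↥M) := by
    intro y hy
    rw [mem_centralizer_iff]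
    intro x hx
    exact om_commute h₁ h₂ hne hx hy
  exact (Nat.not_even_iff_odd.2 (Odd.of_dvd_nat h3 (Subgroup.card_dvd_of_le h4))) he

end Cfsg.Agent.H567.OddOver
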