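import Cfsg.Agent.H567.PCentSeven
import Cfsg.Agent.H573.Spor.All
import Cfsg.Agent.H778.ExcEnd

/-!
# Simple groups all of whose `p`-elements are `p`-central, `p` odd (helper567)

`known` : a known simple group all of whose `p`-elements have class size prime to `p` (`p` odd) has abelian Sylow
`p`-subgroups, or `p = 3` and it is the Tits group, `J₄`, `Ru` or `²F₄(q)`, or `p = 5` and it is `Th`.
-/

set_option autoImplicit false

namespace Cfsg.Agent.H567.PCentSimple

open Cfsg Cfsg.Agent.H573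

theorem prime_cases {p : ℕ} (hp : p.Prime) (h2 : p ≠ 2) : p = 3 ∨ p = 5 ∨ 7 ≤ p := by
  by_contra hcon
  push Not at hcon
  obtain ⟨h3, h5, h7⟩ := hcon
  have h1 := hp.two_le
  have h4 : p ≠ 4 := by rintro rfl; exact absurd hp (by norm_num)
  have h6 : p ≠ 6 := by rintro rfl; exact absurd hp (by norm_num)
  omega

/-- **known simple groups** -/
theorem known {G : Type*} [Group G] [Finite G] [IsSimpleGroup G] (hG : IsKnownSimple' G) {p : ℕ}
    [hp : Fact p.Prime] (hp2 : p ≠ 2) (hc : PCent p G) :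
    (∀ P : Sylow p G, IsMulCommutative P) ∨
      (p = 3 ∧ (Lie.IsoTits G ∨ Cfsg.Spor.IsoJ4 G ∨ Cfsg.Spor.IsoRu G ∨ Lie.Iso2F4 G)) ∨
      (p = 5 ∧ Cfsg.Spor.IsoTh G) := by
  rcases hG with h | h | h | h | h | h | h | h | h | h
  · exact Or.inl fun P => PCentSeven.comm_of_prime h P
  · exact Or.inl fun P => Gap.comm_classical hp2 (Or.inl h) hc P
  · exact Or.inl fun P => Gap.comm_classical hp2 (Or.inr (Or.inl h)) hc P
  · exact Or.inl fun P => Gap.comm_classical hp2 (Or.inr (Or.inr (Or.inl h))) hc P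
  · exact Or.inl fun P => Gap.comm_classical hp2 (Or.inr (Or.inr (Or.inr (Or.inl h)))) hc P
  · exact Or.inl fun P => Gap.comm_classical hp2 (Or.inr (Or.inr (Or.inr (Or.inr (Or.inl h))))) hc P
  · exact Or.inl fun P => Gap.comm_classical hp2 (Or.inr (Or.inr (Or.inr (Or.inr (Or.inr (Or.inl h)))))) hc P
  · exact Or.inl fun P => Gap.comm_classical hp2 (Or.inr (Or.inr (Or.inr (Or.inr (Or.inr (Or.inr h)))))) hc P
  · rcases prime_cases hp.out hp2 with h3 | h5 | h7
    · subst h3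
      rcases H778.Exc.comm_three h hc with h1 | h1 | h1
      · exact Or.inl h1
      · exact Or.inr (Or.inl ⟨rfl, Or.inr (Or.inr (Or.inr h1))⟩)
      · exact Or.inr (Or.inl ⟨rfl, Or.inl h1⟩)
    · subst h5
      exact Or.inl fun P => H778.Exc.comm_five h hc P
    · exact Or.inl fun P => H778.Exc.comm_seven h7 h hc P
  · rcases H573.Spor.sporadic h hp2 hc with h1 | ⟨h3, h1 | h1⟩ | ⟨h5, h1⟩
    · exact Or.inl h1
    · exact Or.inr (Or.inl ⟨h3, Or.inr (Or.inl h1)⟩)
    · exact Or.inr (Or.inl ⟨h3, Or.inr (Or.inr (Or.inl h1))⟩)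
    · exact Or.inr (Or.inr ⟨h5, h1⟩)

end Cfsg.Agent.H567.PCentSimple
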